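/-
The exterior square of a character (namespace `Cfsg.Agent.DegPMinusTwo`).

Main result: `isCharacter_extSq`.
-/
import Cfsg.Agent.Lib.Char.Eigen
import Mathlib.LinearAlgebra.Matrix.Kronecker

set_option autoImplicit false
set_option linter.unusedSectionVars false

open scoped Kronecker

namespace Cfsg.Agent.DegPMinusTwo

open Cfsg

variable {G : Type*} [Group G] {n : ℕ}

/-- The value of the exterior square. -/
noncomputable def extSq (χ : G → ℂ) (g : G) : ℂ := (χ g ^ 2 - χ (g ^ 2)) / 2

/-- The exchange of the two factors. -/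
noncomputable def swapMat (n : ℕ) : Matrix (Fin n × Fin n) (Fin n × Fin n) ℂ :=
  Matrix.of fun a b => if b = a.swap then 1 else 0

theorem swapMat_mul (A : Matrix (Fin n × Fin n) (Fin n × Fin n) ℂ) (a b : Fin n × Fin n) :
    (swapMat n * A) a b = A a.swap b := by
  rw [Matrix.mul_apply, Finset.sum_eq_single a.swap]
  · simp [swapMat]
  · intro c _ hc
    simp [swapMat, hc]
  · simp

theorem mul_swapMat (A : Matrix (Fin n × Fin n) (Fin n × Fin n) ℂ) (a b : Fin n × Fin n) :
    (A * swapMat n) a b = A a b.swap := by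
  rw [Matrix.mul_apply, Finset.sum_eq_single b.swap]
  · simp [swapMat]
  · intro c _ hc
    simp only [swapMat, Matrix.of_apply]
    rw [if_neg, mul_zero]
    exact fun h => hc (by rw [h, Prod.swap_swap])
  · simp

theorem swapMat_comm (g : Matrix (Fin n) (Fin n) ℂ) : swapMat n * (g ⊗ₖ g) = (g ⊗ₖ g) * swapMat n := by
  ext a b
  rw [swapMat_mul, mul_swapMat]
  simp [mul_comm]

theorem swapMat_sq : swapMat n * swapMat n = 1 := by
  ext a b
  rw [swapMat_mul]
  simp only [swapMat, Matrix.of_apply, Prod.swap_swap, Matrix.one_apply]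
  exact if_congr eq_comm rfl rfl

/-- The projection on the antisymmetric tensors. -/
noncomputable def antiMat (n : ℕ) : Matrix (Fin n × Fin n) (Fin n × Fin n) ℂ := (2 : ℂ)⁻¹ • (1 - swapMat n)

theorem antiMat_idem : antiMat n * antiMat n = antiMat n := by
  have h : (1 - swapMat n) * (1 - swapMat n) = (2 : ℂ) • (1 - swapMat n) := by
    rw [sub_mul, one_mul, mul_sub, mul_one, swapMat_sq, two_smul]
    abel
  rw [antiMat, smul_mul_smul_comm, h, smul_smul]
  norm_num

theorem antiMat_comm (g : Matrix (Fin n) (Fin n) ℂ) : antiMat n * (g ⊗ₖ g) = (g ⊗ₖ g) * antiMat n := by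
  simp only [antiMat, Matrix.smul_mul, Matrix.mul_smul, sub_mul, mul_sub, one_mul, mul_one, swapMat_comm]

/-- The exterior square of a character is a character. -/
theorem isCharacter_extSq {χ : G → ℂ} (hχ : IsCharacter G χ) : IsCharacter G (extSq χ) := by
  obtain ⟨n, ρ, rfl⟩ := hχ
  let m : G → Matrix (Fin n) (Fin n) ℂ := fun g => LinearMap.toMatrixAlgEquiv' (ρ g)
  have hm : ∀ g h, m (g * h) = m g * m h := fun g h => by simp only [m, map_mul]
  let R : G →* Matrix (Fin n × Fin n) (Fin n × Fin n) ℂ :=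
    { toFun := fun g => m g ⊗ₖ m g
      map_one' := by simp only [m, map_one, Matrix.one_kronecker_one]
      map_mul' := fun g h => by rw [hm, Matrix.mul_kronecker_mul] }
  set W := LinearMap.range (Matrix.toLin' (antiMat n))
  have hinv : ∀ g, ∀ v ∈ W, Matrix.toLin' (R g) v ∈ W := by
    rintro g v ⟨f, rfl⟩
    refine ⟨Matrix.toLin' (R g) f, ?_⟩
    show Matrix.toLin' (antiMat n) (Matrix.toLin' (m g ⊗ₖ m g) f) = Matrix.toLin' (m g ⊗ₖ m g) (Matrix.toLin' (antiMat n) f)
    rw [← Matrix.toLin'_mul_apply, ← Matrix.toLin'_mul_apply, antiMat_comm]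
  let σ : Representation ℂ G W :=
    { toFun := fun g => LinearMap.restrict (Matrix.toLin' (R g)) (hinv g)
      map_one' := by
        refine LinearMap.ext fun v => Subtype.ext ?_
        show Matrix.toLin' (R 1) v.1 = v.1
        rw [map_one, Matrix.toLin'_one]
        rfl
      map_mul' := fun g h => by
        refine LinearMap.ext fun v => Subtype.ext ?_
        show Matrix.toLin' (R (g * h)) v.1 = Matrix.toLin' (R g) (Matrix.toLin' (R h) v.1)
        rw [map_mul, Matrix.toLin'_mul]
        rfl }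
  suffices h : σ.character = extSq ρ.character from h ▸ Char.isCharacter_character σ
  funext g
  let π : ((Fin n × Fin n) → ℂ) →ₗ[ℂ] W := (Matrix.toLin' (antiMat n)).rangeRestrict
  have hr : σ g = π ∘ₗ (Matrix.toLin' (R g) ∘ₗ W.subtype) := by
    refine LinearMap.ext fun v => Subtype.ext ?_
    obtain ⟨v, f, rfl⟩ := v
    show Matrix.toLin' (R g) (Matrix.toLin' (antiMat n) f) =
      Matrix.toLin' (antiMat n) (Matrix.toLin' (R g) (Matrix.toLin' (antiMat n) f))
    rw [← Matrix.toLin'_mul_apply, ← Matrix.toLin'_mul_apply, show R g = m g ⊗ₖ m g from rfl, ← antiMat_comm,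
      ← mul_assoc, antiMat_idem]
  have htr : ∀ h, ρ.character h = (m h).trace := fun h => by
    rw [Representation.character, LinearMap.trace_eq_matrix_trace ℂ (Pi.basisFun ℂ (Fin n))]
    rfl
  rw [Representation.character, hr, LinearMap.trace_comp_comm', LinearMap.comp_assoc,
    show W.subtype ∘ₗ π = Matrix.toLin' (antiMat n) from rfl, ← Matrix.toLin'_mul, Matrix.trace_toLin'_eq,
    extSq, htr, htr, pow_two g, hm, show R g = m g ⊗ₖ m g from rfl, antiMat, Matrix.mul_smul, mul_sub, mul_one,
    Matrix.trace_smul, Matrix.trace_sub, Matrix.trace_kronecker, smul_eq_mul, pow_two]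
  have hsw : ((m g ⊗ₖ m g) * swapMat n).trace = (m g * m g).trace := by
    show ∑ a, ((m g ⊗ₖ m g) * swapMat n) a a = ∑ i, (m g * m g) i i
    rw [Finset.sum_congr rfl fun a _ => mul_swapMat _ a a]
    simp [Fintype.sum_prod_type, Matrix.mul_apply]
  rw [hsw]
  ring

end Cfsg.Agent.DegPMinusTwo
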