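/-
A faithful irreducible character of degree `p - 2` on the normalizer of `⟨x⟩` (namespace `Cfsg.Agent.DegPMinusTwo`).

Main results: `Data`, `exists_data` (`C(x) = ⟨x⟩ × Z(G)`, `|N(⟨x⟩) : C(x)| = 2`, and the values at the `p`-singular elements).
-/
import Cfsg.Agent.Lib.CyclicDefect.SmallDegree
import Cfsg.Agent.Lib.CentralChar.Fixed
import Cfsg.Agent.Lib.Char.Linear
import Cfsg.Agent.Lib.Char.Eigen

set_option autoImplicit false
set_option linter.unusedSectionVars false
set_option linter.style.haveILetI false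

open scoped ComplexConjugate

namespace Cfsg.Agent.DegPMinusTwo

open Cfsg Cfsg.Agent.Blocks Cfsg.Agent.CyclicDefect

variable {G : Type*} [Group G] [Finite G]

theorem apply_commutator_of_norm {χ : IrrCharacter G} {g : G}
    (h : ‖(χ : G → ℂ) g‖ = (charDegree (χ : G → ℂ) : ℝ)) (a : G) :
    (χ : G → ℂ) (g⁻¹ * a⁻¹ * g * a) = (χ : G → ℂ) 1 := by
  obtain ⟨n, ρ, hirr, hρ⟩ := χ.2
  have hn : (charDegree (χ : G → ℂ) : ℝ) = (Module.finrank ℂ (Fin n → ℂ) : ℝ) := by
    norm_cast
    apply Nat.cast_injective (R := ℂ)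
    rw [charDegree_cast, ← hρ, Representation.char_one]
  rw [← hρ, hρ, hn, ← hρ] at h
  obtain ⟨ω, hω⟩ := (Char.norm_character_eq_iff ρ g).mp h
  have hcomm : ρ g * ρ a = ρ a * ρ g := by
    rw [hω]
    refine LinearMap.ext fun v => ?_
    show ω • ρ a v = ρ a (ω • v)
    rw [map_smul]
  rw [← hρ]
  show LinearMap.trace ℂ _ _ = LinearMap.trace ℂ _ _
  congr 1
  rw [map_mul, map_mul, mul_assoc (ρ _), hcomm, ← map_mul, ← map_mul]
  congr 1
  group

theorem mem_center_of_norm {χ : IrrCharacter G} (hf : ∀ g : G, (χ : G → ℂ) g = (χ : G → ℂ) 1 → g = 1)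
    {g : G} (h : ‖(χ : G → ℂ) g‖ = (charDegree (χ : G → ℂ) : ℝ)) : g ∈ Subgroup.center G :=
  Subgroup.mem_center_iff.mpr fun a => by
    calc a * g = a * g * (g⁻¹ * a⁻¹ * g * a) := by rw [hf _ (apply_commutator_of_norm h a), mul_one]
      _ = g * a := by group

theorem norm_of_mem_center {χ : IrrCharacter G} {g : G} (h : g ∈ Subgroup.center G) :
    ‖(χ : G → ℂ) g‖ = (charDegree (χ : G → ℂ) : ℝ) := by
  obtain ⟨n, ρ, hirr, hρ⟩ := χ.2
  have hn : (charDegree (χ : G → ℂ) : ℝ) = (Module.finrank ℂ (Fin n → ℂ) : ℝ) := by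
    norm_cast
    apply Nat.cast_injective (R := ℂ)
    rw [charDegree_cast, ← hρ, Representation.char_one]
  rw [hn, ← hρ]
  refine (Char.norm_character_eq_iff ρ g).mpr ?_
  have hcomm : ∀ a, (ρ g) ∘ₗ (ρ a) = (ρ a) ∘ₗ (ρ g) := fun a => by
    show ρ g * ρ a = ρ a * ρ g
    rw [← map_mul, ← map_mul, Subgroup.mem_center_iff.mp h a]
  haveI := hirr
  obtain ⟨ω, hω⟩ := (Representation.IsIrreducible.algebraMap_intertwiningMap_bijective_of_isAlgClosed (ρ := ρ)).2
    ⟨ρ g, hcomm⟩
  exact ⟨ω, (congrArg Representation.IntertwiningMap.toLinearMap hω).symm.trans rfl⟩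

variable {p : ℕ} [Fact p.Prime]

/-- What a faithful character of degree `p - 2` gives. -/
structure Data (p : ℕ) [Fact p.Prime] (x : G) (L : Subgroup G) (χ : IrrCharacter G) (c : ZMod p) : Prop where
  c_ne : c ≠ 0
  index_K : (K x L).index = 2
  K_le : ∀ k : K x L, ((k : L) : G) ∈ Subgroup.center G
  center_le : ∀ g ∈ Subgroup.center G, ∃ k : K x L, g = ((k : L) : G)
  val : ∀ i : ZMod p, i ≠ 0 → ∀ g ∈ Subgroup.center G,
    (χ : G → ℂ) (pw x i * g) = -((χ : G → ℂ) g / (charDegree (χ : G → ℂ) : ℂ)) * (ζ (i * c) + ζ (-(i * c)))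

variable {x : G} {L : Subgroup G}

set_option maxHeartbeats 1600000 in
open scoped Classical in
theorem exists_data (hS : Setting p x L) (hp : 5 < p) (χ : IrrCharacter G) (hdeg : charDegree (χ : G → ℂ) = p - 2)
    (hf : ∀ g : G, (χ : G → ℂ) g = (χ : G → ℂ) 1 → g = 1) (hnn : ¬ (Subgroup.zpowers x).Normal) :
    ∃ c, Data p x L χ c := by
  have hpp := hS.hp
  obtain ⟨M, hM⟩ := CentralChar.exists_pModular p
  have := Fintype.ofFinite G
  have := Fintype.ofFinite (K x L)
  have := Fintype.ofFinite (IrrCharacter G)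
  have := Fintype.ofFinite (IrrCharacter (K x L))
  haveI := hS.normal_K
  set n := charDegree (χ : G → ℂ) with hndef
  have hn0 : 0 < n := by omega
  have hnot : ‖(χ : G → ℂ) x‖ ≠ (n : ℝ) := fun h => hnn ⟨fun a ha g => by
    rwa [Subgroup.mem_center_iff.mp (Subgroup.zpowers_le.mpr (mem_center_of_norm hf h) ha) g, mul_inv_cancel_right]⟩
  have hnd : ¬ p ∣ n := fun h => by have := Nat.le_of_dvd hn0 h; omega
  set B := blockOf M (χ : G → ℂ) with hBdef
  have hB : IsPBlock M B := ⟨χ, rfl⟩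
  obtain ⟨η, hl⟩ := exists_lies_of_not_dvd hS hM χ hnd
  obtain ⟨-, exc, ε, δ, hinj, hexcB, hε, hexc, hcst, -⟩ := block_structure hS hM hB hl
  have hnl0 : ∀ φ : IrrCharacter (K x L), ¬ Lies M x L B φ → ∀ j, multN hS χ φ j = 0 := by
    intro φ h j
    have h1 := sum_multN_le hS χ φ
    rw [Finset.sum_congr rfl fun j' _ => multN_of_not_lies hS hM χ h j', Finset.sum_const, Finset.card_univ,
      ZMod.card, smul_eq_mul] at h1
    rw [multN_of_not_lies hS hM χ h j]
    by_contra hne
    have := Nat.le_mul_of_pos_right p (Nat.pos_of_ne_zero hne)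
    omega
  -- a constant row makes `x` act trivially
  have hscalar : ¬ ∀ u v : (ZMod p)ˣ, bInt hS χ η (u : ZMod p) = bInt hS χ η (v : ZMod p) := by
    intro hc
    have hflat : ∀ (φ : IrrCharacter (K x L)) (u v : (ZMod p)ˣ),
        multN hS χ φ (u : ZMod p) = multN hS χ φ (v : ZMod p) := by
      intro φ u v
      by_cases h : Lies M x L B φ
      · obtain ⟨l, rfl⟩ := orbit hS hM hB hl h
        have h1 := multN_cjIrr hS χ l η (((CyclicDefect.alpha hS l)⁻¹ * u : (ZMod p)ˣ) : ZMod p)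
        have h2 := multN_cjIrr hS χ l η (((CyclicDefect.alpha hS l)⁻¹ * v : (ZMod p)ˣ) : ZMod p)
        rw [← Units.val_mul, mul_inv_cancel_left] at h1 h2
        have h3 := hc ((CyclicDefect.alpha hS l)⁻¹ * u) ((CyclicDefect.alpha hS l)⁻¹ * v)
        rw [bInt_eq_sub, bInt_eq_sub] at h3
        omega
      · rw [hnl0 φ h, hnl0 φ h (v : ZMod p)]
    have hz : ∀ (φ : IrrCharacter (K x L)) (u : (ZMod p)ˣ), multN hS χ φ (u : ZMod p) = 0 := by
      intro φ u
      by_contra hne
      have h1 : ∑ v : (ZMod p)ˣ, multN hS χ φ (v : ZMod p) ≤ n := by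
        refine le_trans ?_ (sum_multN_le hS χ φ)
        rw [← Finset.sum_image (f := fun j => multN hS χ φ j) (fun a _ b _ e => Units.ext e)]
        exact Finset.sum_le_sum_of_subset (Finset.subset_univ _)
      rw [Finset.sum_congr rfl fun v _ => hflat φ v u, Finset.sum_const, Finset.card_univ, ZMod.card_units,
        smul_eq_mul] at h1
      have := Nat.le_mul_of_pos_right (p - 1) (Nat.pos_of_ne_zero hne)
      omega
    refine hnot ?_
    have hi : ∀ i : ZMod p, (χ : G → ℂ) (pw x i * ((1 : K x L) : L)) =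
        ∑ φ : IrrCharacter (K x L), (multN hS χ φ 0 : ℂ) * (φ : K x L → ℂ) 1 := fun i => by
      rw [apply_eq_sum hS (irr_class χ)]
      refine Finset.sum_congr rfl fun φ _ => congrArg (· * _) ?_
      rw [dec_eq_sum_mult, Finset.sum_eq_single 0 (fun j _ hj => ?_) (fun h => absurd (Finset.mem_univ _) h),
        mul_zero, ζ_zero, mul_one, multN_spec hS]
      rw [multN_spec hS, show j = ((Units.mk0 j hj : (ZMod p)ˣ) : ZMod p) from rfl, hz, Nat.cast_zero, zero_mul]
    have h := (hi 1).trans (hi 0).symm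
    simp only [hS.pw_one, hS.pw_zero, OneMemClass.coe_one, mul_one] at h
    rw [h, ← charDegree_cast χ, Complex.norm_natCast]
  obtain ⟨c₀, hcχ⟩ : χ ∈ Set.range exc := by
    by_contra hχe
    exact hscalar fun u v => by rw [(hcst χ (mem_blockOf_self hM χ) hχe).2, (hcst χ (mem_blockOf_self hM χ) hχe).2]
  have hrow : ∀ u : (ZMod p)ˣ, bInt hS χ η (u : ZMod p) =
      if (u : (ZMod p)ˣ ⧸ U hS (η : K x L → ℂ)) = c₀ then ε else 0 := hcχ ▸ hexc c₀
  set e := Nat.card (U hS (η : K x L → ℂ)) with hedef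
  have he2 : 2 * e ≤ p - 1 := by
    rw [← card_units_eq hS (η : K x L → ℂ), mul_comm 2]
    refine Nat.mul_le_mul_left _ ?_
    by_contra hle
    haveI : Subsingleton ((ZMod p)ˣ ⧸ U hS (η : K x L → ℂ)) := Finite.card_le_one_iff_subsingleton.mp (by omega)
    exact hscalar fun u v => by rw [hrow, hrow, Subsingleton.elim (u : (ZMod p)ˣ ⧸ U hS (η : K x L → ℂ)) v]
  have he0 : 0 < e := Nat.card_pos
  have hsum := sum_bInt_eq hS χ η
  rw [sum_bInt_exc hS hrow] at hsum
  have hSle := sum_multN_le hS χ η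
  set S₀ := ∑ j : ZMod p, multN hS χ η j with hS₀
  set m₀ := multN hS χ η 0 with hm₀
  set T : Finset (IrrCharacter (K x L)) := Finset.univ.filter (Lies M x L B) with hT
  have hmemT : ∀ φ, φ ∈ T ↔ Lies M x L B φ := fun φ => by simp [hT]
  have hdegsum : n = charDegree (η : K x L → ℂ) * (T.card * S₀) := by
    rw [hndef, charDegree_eq_sum hS χ,
      ← Finset.sum_subset (Finset.subset_univ T) (fun φ _ hφ => by
        rw [Finset.sum_eq_zero fun j _ => hnl0 φ (fun h => hφ ((hmemT φ).mpr h)) j, mul_zero]),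
      Finset.sum_congr rfl fun (φ : IrrCharacter (K x L)) hφ => show charDegree (φ : K x L → ℂ) * ∑ j : ZMod p, multN hS χ φ j =
        charDegree (η : K x L → ℂ) * S₀ from ?_, Finset.sum_const, smul_eq_mul]
    · ring
    · obtain ⟨l, rfl⟩ := orbit hS hM hB hl ((hmemT φ).mp hφ)
      rw [sum_multN_cjIrr hS, charDegree_cjIrr hS]
  have hTe : T.card * e = (K x L).index := by
    rw [hT, card_lies hS hM hB hl, hedef, card_U hS, mul_comm]
    exact Subgroup.relIndex_mul_index (CharApp.le_inertia _ (irr_class η))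
  have hEdvd : (K x L).index ∣ p - 1 := by
    rw [← card_U_one hS, ← card_units_eq hS (oneK x L : K x L → ℂ)]
    exact dvd_mul_right _ _
  rcases hε with hε | hε
  · -- no positive sign
    exfalso
    subst hε
    have hm : m₀ = 0 := by
      by_contra h
      have := Nat.le_mul_of_pos_right p (Nat.pos_of_ne_zero h)
      omega
    have hS0e : S₀ = e := by rw [hm] at hsum; omega
    rw [hS0e, hTe] at hdegsum
    have hE1 : (K x L).index = 1 := by
      have h1 : (K x L).index ∣ n := Dvd.intro_left _ hdegsum.symm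
      have h2 : (K x L).index ∣ n + 1 := by rwa [show n + 1 = p - 1 by omega]
      exact Nat.dvd_one.mp ((Nat.dvd_add_right h1).mp h2)
    obtain ⟨hT1, he1⟩ := mul_eq_one.mp (hTe.trans hE1)
    obtain ⟨φ₀, hφ₀⟩ := Finset.card_eq_one.mp hT1
    obtain ⟨j₀, hj₀, hj1⟩ : ∃ j₀, multN hS χ η j₀ = 1 ∧ ∀ j, j ≠ j₀ → multN hS χ η j = 0 := by
      obtain ⟨j₀, -, hj₀⟩ := Finset.exists_ne_zero_of_sum_ne_zero (show S₀ ≠ 0 by omega)
      have hle : ∀ j, j ≠ j₀ → multN hS χ η j₀ + multN hS χ η j ≤ 1 := fun j hj => by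
        rw [← he1, ← hS0e, hS₀, ← Finset.sum_pair (f := fun j => multN hS χ η j) hj.symm]
        exact Finset.sum_le_sum_of_subset (Finset.subset_univ _)
      refine ⟨j₀, ?_, fun j hj => ?_⟩
      · have := Finset.single_le_sum (f := fun j => multN hS χ η j) (fun _ _ => Nat.zero_le _) (Finset.mem_univ j₀)
        omega
      · have := hle j hj; omega
    have hdec : ∀ i : ZMod p, dec (χ : G → ℂ) (η : K x L → ℂ) i = ζ (i * j₀) := fun i => by
      rw [dec_eq_sum_mult, Finset.sum_eq_single j₀ (fun j _ hj => by rw [multN_spec hS, hj1 j hj, Nat.cast_zero, zero_mul])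
        (fun h => absurd (Finset.mem_univ _) h), multN_spec hS, hj₀, Nat.cast_one, one_mul]
    have happ := apply_eq_sum hS (irr_class χ) (1 : ZMod p) 1
    rw [Finset.sum_eq_single η (fun φ _ hne => ?_) (fun h => absurd (Finset.mem_univ _) h), hdec,
      hS.pw_one, OneMemClass.coe_one, OneMemClass.coe_one, mul_one, ← charDegree_cast] at happ
    · refine hnot ?_
      rw [happ, norm_mul, Complex.norm_natCast, one_mul, Complex.norm_eq_one_of_pow_eq_one (ζ_pow j₀) hpp.ne_zero,
        one_mul, hdegsum, hE1, mul_one]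
    · rw [dec_eq_sum_mult, Finset.sum_eq_zero, zero_mul]
      intro j _
      rw [multN_spec hS, hnl0 φ (fun h => hne (by
        have h1 := (hmemT φ).mpr h
        have h2 := (hmemT η).mpr hl
        rw [hφ₀, Finset.mem_singleton] at h1 h2
        rw [h1, h2])), Nat.cast_zero, zero_mul]
  subst hε
  have hmu : ∀ u : (ZMod p)ˣ, (multN hS χ η (u : ZMod p) : ℤ) =
      (m₀ : ℤ) + if (u : (ZMod p)ˣ ⧸ U hS (η : K x L → ℂ)) = c₀ then -1 else 0 := fun u => by
    rw [← hrow u, bInt_eq_sub]; ring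
  have hm1 : 1 ≤ m₀ := by
    have h := hmu c₀.out
    rw [if_pos (Quotient.out_eq c₀)] at h
    omega
  have hmul : p ≤ p * m₀ := Nat.le_mul_of_pos_right p hm1
  have hm : m₀ = 1 := by
    by_contra h
    have := Nat.mul_le_mul_left p (show 2 ≤ m₀ by omega)
    omega
  rw [hm] at hsum
  have hS0e : S₀ = p - e := by omega
  have hd1 : charDegree (η : K x L → ℂ) * T.card = 1 := by
    have h : n = charDegree (η : K x L → ℂ) * T.card * S₀ := by rw [hdegsum, mul_assoc]
    rcases Nat.lt_or_ge 1 (charDegree (η : K x L → ℂ) * T.card) with h1 | h1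
    · have := Nat.mul_le_mul_right S₀ (show 2 ≤ _ from h1)
      omega
    · rcases Nat.eq_zero_or_pos (charDegree (η : K x L → ℂ) * T.card) with h2 | h2
      · rw [h2, zero_mul] at h; omega
      · omega
  obtain ⟨hη1, hT1⟩ := mul_eq_one.mp hd1
  rw [hη1, hT1, one_mul, one_mul] at hdegsum
  have he : e = 2 := by omega
  have hE : (K x L).index = 2 := by rw [← hTe, hT1, he, one_mul]
  have hU : ∀ u : (ZMod p)ˣ, u ∈ U hS (η : K x L → ℂ) ↔ (u : ZMod p) = 1 ∨ (u : ZMod p) = -1 := by
    intro u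
    have hsq : ∀ v ∈ U hS (η : K x L → ℂ), (v : ZMod p) = 1 ∨ (v : ZMod p) = -1 := fun v hv => by
      have h1 : (⟨v, hv⟩ : U hS (η : K x L → ℂ)) ^ 2 = 1 := by rw [← he, hedef]; exact pow_card_eq_one'
      have h2 : ((v : ZMod p)) ^ 2 = 1 := by
        have := congrArg (fun w : U hS (η : K x L → ℂ) => ((w : (ZMod p)ˣ) : ZMod p)) h1
        simpa using this
      exact sq_eq_one_iff.mp h2
    refine ⟨hsq u, fun h => ?_⟩
    rcases h with h | h
    · rw [Units.ext (show (u : ZMod p) = ((1 : (ZMod p)ˣ) : ZMod p) from h)]; exact one_mem _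
    · obtain ⟨w, hw⟩ : ∃ w : U hS (η : K x L → ℂ), w ≠ 1 := by
        haveI : Nontrivial (U hS (η : K x L → ℂ)) := Finite.one_lt_card_iff_nontrivial.mp (by omega)
        exact exists_ne 1
      rcases hsq w.1 w.2 with h1 | h1
      · exact absurd (Subtype.ext (Units.ext (by simpa using h1))) hw
      · rw [Units.ext (h.trans h1.symm)]; exact w.2
  set c : ZMod p := ((c₀.out : (ZMod p)ˣ) : ZMod p) with hc
  have hcne : c ≠ 0 := Units.ne_zero _
  have hcoset : ∀ u : (ZMod p)ˣ, ((u : (ZMod p)ˣ ⧸ U hS (η : K x L → ℂ)) = c₀) ↔ ((u : ZMod p) = c ∨ (u : ZMod p) = -c) := by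
    intro u
    conv_lhs => rw [← Quotient.out_eq c₀]
    show ((u : (ZMod p)ˣ ⧸ U hS (η : K x L → ℂ)) = ((c₀.out : (ZMod p)ˣ) : (ZMod p)ˣ ⧸ _)) ↔ _
    rw [QuotientGroup.eq, hU, Units.val_mul]
    have hu := u.ne_zero
    have hinv : ((u⁻¹ : (ZMod p)ˣ) : ZMod p) * (u : ZMod p) = 1 := by rw [← Units.val_mul, inv_mul_cancel, Units.val_one]
    constructor
    · rintro (h | h)
      · left; linear_combination (-(u : ZMod p)) * h + c * hinv
      · right; linear_combination (u : ZMod p) * h - c * hinv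
    · rintro (h | h)
      · left; rw [← hc, ← h, hinv]
      · right; linear_combination (-((u⁻¹ : (ZMod p)ˣ) : ZMod p)) * (-h) - hinv
  have hdec : ∀ i : ZMod p, i ≠ 0 → dec (χ : G → ℂ) (η : K x L → ℂ) i = -(ζ (i * c) + ζ (-(i * c))) := by
    intro i hi
    have hcc : c ≠ -c := fun h => hcne (by
      have h2 : (2 : ZMod p) * c = 0 := by linear_combination h
      rcases mul_eq_zero.mp h2 with h3 | h3
      · exfalso
        have h4 : ((2 : ℕ) : ZMod p) = 0 := by exact_mod_cast h3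
        have := Nat.le_of_dvd two_pos ((ZMod.natCast_eq_zero_iff 2 p).mp h4)
        omega
      · exact h3)
    have hm2 : ∀ j : ZMod p, (multN hS χ η j : ℂ) = 1 - if j = c ∨ j = -c then 1 else 0 := by
      intro j
      by_cases hj : j = 0
      · rw [hj, ← hm₀, hm, if_neg (by rintro (h | h) <;> [exact hcne h.symm; exact hcne (neg_eq_zero.mp h.symm)])]
        norm_num
      · have h := hmu (Units.mk0 j hj)
        rw [hm, Units.val_mk0] at h
        have h' : (multN hS χ η j : ℂ) = 1 + ((if ((Units.mk0 j hj : (ZMod p)ˣ) : (ZMod p)ˣ ⧸ U hS (η : K x L → ℂ)) = c₀ then -1 else 0 : ℤ) : ℂ) := by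
          exact_mod_cast h
        rw [h']
        by_cases hjc : j = c ∨ j = -c
        · rw [if_pos hjc, if_pos ((hcoset _).mpr (by rwa [Units.val_mk0]))]; norm_num
        · rw [if_neg hjc, if_neg (fun h => hjc (by simpa using (hcoset _).mp h))]; norm_num
    rw [dec_eq_sum_mult, Finset.sum_congr rfl fun j _ => by rw [multN_spec hS, hm2 j, sub_mul, one_mul],
      Finset.sum_sub_distrib, Finset.sum_congr rfl (g := fun j => ζ (j * i)) fun j _ => by rw [mul_comm],
      sum_ζ_mul, if_neg hi, zero_sub]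
    simp only [ite_mul, one_mul, zero_mul]
    rw [← Finset.sum_filter, show Finset.univ.filter (fun j : ZMod p => j = c ∨ j = -c) = {c, -c} by ext; simp,
      Finset.sum_pair hcc, mul_neg]
  obtain ⟨l₀, hl₀⟩ := Char.exists_hom_of_degree_one (Char.IsIrrCharacter.isCharacter η.2)
    (by rw [← charDegree_cast, hη1, Nat.cast_one])
  have hval : ∀ (i : ZMod p) (k : K x L),
      (χ : G → ℂ) (pw x i * ((k : L) : G)) = dec (χ : G → ℂ) (η : K x L → ℂ) i * (η : K x L → ℂ) k := by
    intro i k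
    rw [apply_eq_sum hS (irr_class χ), Finset.sum_eq_single η (fun φ _ hne => ?_) (fun h => absurd (Finset.mem_univ _) h)]
    rw [dec_eq_sum_mult, Finset.sum_eq_zero, zero_mul]
    intro j _
    rw [multN_spec hS, hnl0 φ (fun h => hne ?_), Nat.cast_zero, zero_mul]
    obtain ⟨φ₀, hφ₀⟩ := Finset.card_eq_one.mp hT1
    have h1 := (hmemT φ).mpr h
    have h2 := (hmemT η).mpr hl
    rw [hφ₀, Finset.mem_singleton] at h1 h2
    rw [h1, h2]
  have hk : ∀ k : K x L, (χ : G → ℂ) ((k : L) : G) = (n : ℂ) * (η : K x L → ℂ) k := fun k => by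
    have h := hval 0 k
    rwa [hS.pw_zero, one_mul, dec_zero_eq hS, ← hS₀, ← hdegsum] at h
  have hKle : ∀ k : K x L, ((k : L) : G) ∈ Subgroup.center G := fun k => mem_center_of_norm hf (by
    rw [hk, norm_mul, Complex.norm_natCast, ← hl₀, Complex.norm_eq_one_of_pow_eq_one
      (show l₀ k ^ Nat.card (K x L) = 1 by rw [← map_pow, pow_card_eq_one', map_one]) Nat.card_pos.ne', mul_one])
  have hcl : ∀ g ∈ Subgroup.center G, ∃ k : K x L, g = ((k : L) : G) := by
    intro g hg
    refine hS.exists_K_of_regular (Subgroup.mem_center_iff.mp hg x) fun hd => hnn ?_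
    -- a central element of order `p`
    set y := g ^ (orderOf g / p)
    have hy : orderOf y = p := orderOf_pow_orderOf_div (orderOf_pos g).ne' hd
    have hyc : y ∈ Subgroup.center G := Subgroup.pow_mem _ hg _
    have hcx : Commute x y := (Subgroup.mem_center_iff.mp hyc x)
    obtain ⟨i, k, hik⟩ := hS.decomp hcx.symm.symm
    have hk1 : ((k : L) : G) ^ p = 1 := by
      have h1 : y ^ p = 1 := by rw [← hy, pow_orderOf_eq_one]
      rw [hik, (hS.commute_pw i (hS.commute_K k)).mul_pow, hS.pw_pow, ZMod.natCast_self, zero_mul, hS.pw_zero, one_mul] at h1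
      exact h1
    have hk2 : ((k : L) : G) = 1 := by
      rw [← orderOf_eq_one_iff]
      rcases (Nat.dvd_prime hpp).mp (orderOf_dvd_of_pow_eq_one hk1) with h | h
      · exact h
      · exact absurd (h ▸ dvd_refl p) (hS.regular_K k)
    have hz : Subgroup.zpowers y = Subgroup.zpowers x := by
      refine Subgroup.eq_of_le_of_card_ge (Subgroup.zpowers_le.mpr ?_) ?_
      · rw [hik, hk2, mul_one]; exact hS.pw_mem i
      · rw [hS.card_zpowers_eq, Nat.card_zpowers, hy]
    rw [← hz]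
    exact ⟨fun a ha b => by
      rwa [Subgroup.mem_center_iff.mp (Subgroup.zpowers_le.mpr hyc ha) b, mul_inv_cancel_right]⟩
  refine ⟨c, hcne, hE, hKle, hcl, fun i hi g hg => ?_⟩
  obtain ⟨k, rfl⟩ := hcl g hg
  rw [hval, hdec i hi, hk, mul_div_cancel_left₀ _ (Nat.cast_ne_zero.mpr hn0.ne')]
  ring

end Cfsg.Agent.DegPMinusTwo
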