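/-
The exterior square of a faithful irreducible character of degree `p - 2` (namespace `Cfsg.Agent.DegPMinusTwo`).

Main results: `center_pow_eq_one` (the centre of a perfect group has exponent dividing the degree), `exists_exponent`
(at the regular elements `χ g ^ 2 - χ (g ^ 2) = (n - 1) χ (g ^ k)`).
-/
import Cfsg.Agent.Lib.DegPMinusTwo.Local
import Cfsg.Agent.Lib.DegPMinusTwo.ExtSquare
import Cfsg.Agent.Lib.GaloisPow.Twist
import Cfsg.Agent.Lib.CharExtend.DetExt
import Mathlib.GroupTheory.Abelianization.Defs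

set_option autoImplicit false
set_option linter.unusedSectionVars false
set_option linter.style.haveILetI false

open scoped ComplexConjugate

namespace Cfsg.Agent.DegPMinusTwo

open Cfsg Cfsg.Agent.Blocks Cfsg.Agent.CyclicDefect

variable {G : Type*} [Group G] [Finite G]

/-- A central element acts by a scalar. -/
theorem exists_scalar (χ : IrrCharacter G) {z : G} (hz : z ∈ Subgroup.center G) :
    ∃ ω : ℂ, (∀ k : ℕ, (χ : G → ℂ) (z ^ k) = ω ^ k * (charDegree (χ : G → ℂ) : ℂ)) ∧
      (∀ g, (χ : G → ℂ) (z * g) = ω * (χ : G → ℂ) g) ∧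
      (commutator G = ⊤ → ω ^ charDegree (χ : G → ℂ) = 1) := by
  have hnorm := norm_of_mem_center (χ := χ) hz
  obtain ⟨n, ρ, hirr, hρ⟩ := χ.2
  have hnd : charDegree (χ : G → ℂ) = n := by
    apply Nat.cast_injective (R := ℂ)
    rw [charDegree_cast, ← hρ, Representation.char_one, Module.finrank_fin_fun]
  rw [← hρ] at hnorm
  obtain ⟨ω, hω⟩ := (Char.norm_character_eq_iff ρ z).mp (hnorm.trans (by
    rw [hρ, hnd, Module.finrank_fin_fun]))
  have hω' : ρ z = ω • (1 : Module.End ℂ (Fin n → ℂ)) := hω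
  refine ⟨ω, fun k => ?_, fun g => ?_, fun hperf => ?_⟩
  · rw [hnd, ← hρ, Representation.character, map_pow, hω', smul_pow, one_pow, map_smul, LinearMap.trace_one,
      Module.finrank_fin_fun, smul_eq_mul]
  · rw [← hρ, Representation.character, Representation.character, map_mul, hω', smul_mul_assoc, one_mul,
      map_smul, smul_eq_mul]
  · have hker : (CharExtend.detU n).comp ρ.toHomUnits = 1 := by
      refine MonoidHom.ext fun g => ?_
      exact Abelianization.commutator_subset_ker _ (hperf.symm ▸ Subgroup.mem_top g)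
    have h := congrArg (fun u : ℂˣ => (u : ℂ)) (DFunLike.congr_fun hker z)
    have h1 : LinearMap.det (ρ z) = 1 := h
    rw [hω', LinearMap.det_smul, map_one, mul_one, Module.finrank_fin_fun] at h1
    rwa [hnd]

theorem center_pow_eq_one {χ : IrrCharacter G} (hf : ∀ g : G, (χ : G → ℂ) g = (χ : G → ℂ) 1 → g = 1)
    (hperf : commutator G = ⊤) {z : G} (hz : z ∈ Subgroup.center G) : z ^ charDegree (χ : G → ℂ) = 1 := by
  obtain ⟨ω, h1, -, h2⟩ := exists_scalar χ hz
  exact hf _ (by rw [h1, h2 hperf, one_mul, charDegree_cast])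

theorem apply_center_pow_div (χ : IrrCharacter G) {z : G} (hz : z ∈ Subgroup.center G) (k : ℕ) :
    (χ : G → ℂ) (z ^ k) / (charDegree (χ : G → ℂ) : ℂ) = ((χ : G → ℂ) z / (charDegree (χ : G → ℂ) : ℂ)) ^ k := by
  obtain ⟨ω, h1, -⟩ := exists_scalar χ hz
  have hn : (charDegree (χ : G → ℂ) : ℂ) ≠ 0 := by rw [charDegree_cast]; exact irr_one_ne_zero χ
  have h := h1 1
  rw [pow_one, pow_one] at h
  rw [h1, h, mul_div_cancel_right₀ _ hn, mul_div_cancel_right₀ _ hn]

variable {p : ℕ} [Fact p.Prime]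

/-- The sum of `ζ a` and `ζ (-a)`. -/
noncomputable def etaSum (a : ZMod p) : ℂ := ζ a + ζ (-a)

theorem zeta_add (a b : ZMod p) : ζ (a + b) = ζ a * ζ b :=
  AddChar.map_add_eq_mul ZMod.stdAddChar a b

theorem etaSum_sq (a : ZMod p) : etaSum a ^ 2 = etaSum (2 * a) + 2 := by
  have h1 : ζ a * ζ (-a) = 1 := by rw [← zeta_add, add_neg_cancel, ζ_zero]
  have h2 : ζ (2 * a) = ζ a * ζ a := by rw [← zeta_add, two_mul]
  have h3 : ζ (-(2 * a)) = ζ (-a) * ζ (-a) := by rw [← zeta_add, two_mul, neg_add]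
  rw [etaSum, etaSum, h2, h3]
  linear_combination (2 : ℂ) * h1

theorem eq_or_neg_of_etaSum {a b : ZMod p} (h : ∀ i : ZMod p, etaSum (i * a) = etaSum (i * b)) :
    a = b ∨ a = -b := by
  by_contra hne
  push Not at hne
  have hp := (Fact.out : p.Prime)
  have h2 : ∑ i : ZMod p, etaSum (i * a) * ζ (-(i * a)) = ∑ i : ZMod p, etaSum (i * b) * ζ (-(i * a)) := by
    simp only [h]
  have e : ∀ b : ZMod p, ∑ i : ZMod p, etaSum (i * b) * ζ (-(i * a)) =
      (if b - a = 0 then (p : ℂ) else 0) + (if -b - a = 0 then (p : ℂ) else 0) := by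
    intro b
    rw [← sum_ζ_mul, ← sum_ζ_mul, ← Finset.sum_add_distrib]
    refine Finset.sum_congr rfl fun i _ => ?_
    rw [etaSum, add_mul, ← zeta_add, ← zeta_add]
    congr 2 <;> ring
  rw [e, e, if_pos (sub_self a), if_neg (fun hh : b - a = 0 => hne.1 (sub_eq_zero.mp hh).symm),
    if_neg (fun hh : -b - a = 0 => hne.2 (sub_eq_zero.mp hh).symm), add_zero] at h2
  split_ifs at h2
  · have : ((2 * p : ℕ) : ℂ) = ((0 : ℕ) : ℂ) := by push_cast; linear_combination h2
    have := Nat.cast_injective (R := ℂ) this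
    have := hp.pos
    omega
  · rw [add_zero] at h2
    exact hp.ne_zero (by exact_mod_cast h2)

variable {x : G} {L : Subgroup G} {χ : IrrCharacter G} {c : ZMod p}

set_option maxHeartbeats 800000 in
open scoped Classical in
theorem exists_exponent (hS : Setting p x L) (h : Data p x L χ c) (hp : 5 < p)
    (hdeg : charDegree (χ : G → ℂ) = p - 2) (hf : ∀ g : G, (χ : G → ℂ) g = (χ : G → ℂ) 1 → g = 1)
    (hperf : commutator G = ⊤) :
    ∃ k0 : ℕ, k0.Coprime (Nat.card G / p) ∧ ∀ g : G, ¬ p ∣ orderOf g →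
      (χ : G → ℂ) g ^ 2 - (χ : G → ℂ) (g ^ 2) = ((charDegree (χ : G → ℂ) : ℂ) - 1) * (χ : G → ℂ) (g ^ k0) := by
  have hpp := hS.hp
  have := Fintype.ofFinite G
  have := Fintype.ofFinite (IrrCharacter G)
  set n := charDegree (χ : G → ℂ) with hn
  set m := Nat.card G / p with hm
  have hpd : p ∣ Nat.card G := hS.hx ▸ orderOf_dvd_natCard x
  have hpm : p * m = Nat.card G := Nat.mul_div_cancel' hpd
  have hm0 : m ≠ 0 := fun h0 => Nat.card_pos.ne' (hpm.symm.trans (by rw [h0, mul_zero]))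
  have hco : m.Coprime p := (hpp.coprime_iff_not_dvd.mpr fun hd => hS.hsq (by
    rw [pow_two, ← hpm]; exact Nat.mul_dvd_mul_left p hd)).symm
  have hN : Nat.Coprime 2 (Nat.gcd m n) := Nat.coprime_two_left.mpr
    (Odd.of_dvd_nat (by have := hpp.eq_two_or_odd; rw [hdeg, Nat.odd_iff]; omega) (Nat.gcd_dvd_right m n))
  haveI : NeZero m := ⟨hm0⟩
  haveI : NeZero (Nat.gcd m n) := ⟨fun h0 => hm0 (Nat.eq_zero_of_gcd_eq_zero_left h0)⟩
  obtain ⟨u, hu⟩ := ZMod.unitsMap_surjective (Nat.gcd_dvd_left m n) (ZMod.unitOfCoprime 2 hN)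
  set k0 := (u : ZMod m).val with hk0
  have hk0c : k0.Coprime m := ZMod.val_coe_unit_coprime u
  have hk02 : k0 ≡ 2 [MOD Nat.gcd m n] := by
    rw [← ZMod.natCast_eq_natCast_iff]
    have h1 := congrArg Units.val hu
    rw [ZMod.coe_unitOfCoprime] at h1
    rw [← h1, hk0]
    show ((u : ZMod m).val : ZMod (Nat.gcd m n)) = ZMod.castHom (Nat.gcd_dvd_left m n) (ZMod (Nat.gcd m n)) (u : ZMod m)
    rw [ZMod.castHom_apply, ZMod.natCast_val]
  have hzm : ∀ z ∈ Subgroup.center G, orderOf z ∣ m := fun z hz => by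
    obtain ⟨k, rfl⟩ := h.center_le z hz
    exact hS.dvd_of_regular (hS.regular_K k)
  have hzk : ∀ z ∈ Subgroup.center G, z ^ k0 = z ^ 2 := fun z hz =>
    pow_eq_pow_iff_modEq.mpr (hk02.of_dvd (Nat.dvd_gcd (hzm z hz) (orderOf_dvd_of_pow_eq_one (center_pow_eq_one hf hperf hz))))
  -- the Galois conjugates
  have key : ∀ s : ZMod p, ∃ ψ : IrrCharacter G, s ≠ 0 →
      (∀ g : G, ¬ p ∣ orderOf g → (ψ : G → ℂ) g = (χ : G → ℂ) (g ^ k0)) ∧
      ∀ i : ZMod p, i ≠ 0 → ∀ z ∈ Subgroup.center G,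
        (ψ : G → ℂ) (pw x i * z) = -((χ : G → ℂ) z / (n : ℂ)) ^ 2 * etaSum (i * (s * c)) := by
    intro s
    by_cases hs : s = 0
    · exact ⟨χ, fun h0 => absurd hs h0⟩
    obtain ⟨k, hk1, hk2⟩ := Nat.chineseRemainder hco k0 s.val
    have hkc : k.Coprime (Nat.card G) := by
      rw [← hpm]
      refine Nat.Coprime.mul_right ?_ ?_
      · refine (hpp.coprime_iff_not_dvd.mpr fun hd => hs ?_).symm
        have : (k : ZMod p) = (s.val : ZMod p) := (ZMod.natCast_eq_natCast_iff _ _ _).mpr hk2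
        rw [(ZMod.natCast_eq_zero_iff k p).mpr hd, ZMod.natCast_zmod_val] at this
        exact this.symm
      · exact (Nat.ModEq.gcd_eq hk1).trans hk0c
    refine ⟨GaloisPow.powIrr hkc χ, fun _ => ⟨fun g hg => ?_, fun i hi z hz => ?_⟩⟩
    · rw [GaloisPow.powIrr_apply, pow_eq_pow_iff_modEq.mpr (hk1.of_dvd (hS.dvd_of_regular hg))]
    · rw [GaloisPow.powIrr_apply, (hS.commute_pw i (Subgroup.mem_center_iff.mp hz x)).mul_pow, hS.pw_pow,
        show (k : ZMod p) = s by rw [(ZMod.natCast_eq_natCast_iff _ _ _).mpr hk2, ZMod.natCast_zmod_val],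
        pow_eq_pow_iff_modEq.mpr (hk1.of_dvd (hzm z hz)), hzk z hz, h.val _ (mul_ne_zero hs hi) _ (Subgroup.pow_mem _ hz 2),
        apply_center_pow_div χ hz 2, etaSum, show s * i * c = i * (s * c) by ring]
  choose W hW using key
  set S : Finset (ZMod p) := Finset.univ.filter fun s => s ≠ 0 ∧ s ≠ 2 ∧ s ≠ -2 with hSdef
  have hmemS : ∀ s, s ∈ S ↔ s ≠ 0 ∧ s ≠ 2 ∧ s ≠ -2 := fun s => by simp [hSdef]
  have h20 : (2 : ZMod p) ≠ 0 := fun h2 => by
    have h4 : ((2 : ℕ) : ZMod p) = 0 := by exact_mod_cast h2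
    have := Nat.le_of_dvd two_pos ((ZMod.natCast_eq_zero_iff 2 p).mp h4)
    omega
  have h2n : (2 : ZMod p) ≠ -2 := fun h2 => by
    have h3 : (2 : ZMod p) * 2 = 0 := by linear_combination h2
    exact h20 ((mul_eq_zero.mp h3).elim id id)
  have hWeq : ∀ r s : ZMod p, r ≠ 0 → s ≠ 0 → (W r = W s ↔ r = s ∨ r = -s) := by
    intro r s hr hs
    refine ⟨fun he => ?_, ?_⟩
    · have hc := h.c_ne
      refine (eq_or_neg_of_etaSum (a := r * c) (b := s * c) fun i => ?_).imp (mul_right_cancel₀ hc)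
        (fun e => mul_right_cancel₀ hc (by rw [e, neg_mul]))
      by_cases hi : i = 0
      · simp [hi]
      have h1 := (hW r hr).2 i hi 1 (one_mem _)
      have h2 := (hW s hs).2 i hi 1 (one_mem _)
      rw [he, h2, ← charDegree_cast, ← hn, div_self (Nat.cast_ne_zero.mpr (by omega)), one_pow] at h1
      simpa using h1.symm
    · rintro (rfl | rfl)
      · rfl
      refine Subtype.ext (funext fun g => ?_)
      by_cases hg : p ∣ orderOf g
      · refine ext_of_singular hS (irr_class _) (irr_class _) (fun i hi k => ?_) hg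
        rw [(hW _ hr).2 i hi _ (h.K_le k), (hW s hs).2 i hi _ (h.K_le k), etaSum, etaSum,
          show i * (-s * c) = -(i * (s * c)) by ring, neg_neg, add_comm (ζ (-(i * (s * c))))]
      · rw [(hW _ hr).1 g hg, (hW s hs).1 g hg]
  have hscard : S.card = p - 3 := by
    have : S = Finset.univ \ {0, 2, -2} := by ext s; simp [hSdef]
    rw [this, Finset.card_sdiff_of_subset (Finset.subset_univ _), Finset.card_univ, ZMod.card,
      Finset.card_insert_of_notMem (by simp [h20.symm, h20]), Finset.card_pair h2n]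
  -- the difference vanishes at the singular elements
  have hT : IsCharacter G (extSq (χ : G → ℂ)) := isCharacter_extSq (Char.IsIrrCharacter.isCharacter χ.2)
  obtain ⟨a, ha, hain⟩ := Char.IsCharacter.decompose hT
  set F1 : G → ℂ := (2 : ℂ) • extSq (χ : G → ℂ) with hF1
  set F2 : G → ℂ := ∑ s ∈ S, (W s : G → ℂ) with hF2
  have hsing : ∀ g, p ∣ orderOf g → F1 g = F2 g := by
    intro g hg
    refine ext_of_singular hS (Char.isClassFunction_smul (Char.IsCharacter.isClassFunction hT) _)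
      (Char.isClassFunction_sum _ fun s _ => irr_class (W s)) (fun i hi k => ?_) hg
    set z := ((k : L) : G)
    have hz := h.K_le k
    set w := (χ : G → ℂ) z / (n : ℂ)
    rw [Pi.smul_apply, smul_eq_mul, extSq, Finset.sum_apply,
      (hS.commute_pw i (Subgroup.mem_center_iff.mp hz x)).mul_pow, hS.pw_pow, h.val i hi z hz,
      h.val _ (mul_ne_zero (by exact_mod_cast h20) hi) _ (Subgroup.pow_mem _ hz 2), apply_center_pow_div χ hz 2,
      Finset.sum_congr rfl fun s hs => (hW s ((hmemS s).mp hs).1).2 i hi z hz, ← Finset.mul_sum]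
    have hall : ∑ s : ZMod p, etaSum (i * (s * c)) = 0 := by
      simp only [etaSum, show ∀ s : ZMod p, i * (s * c) = s * (i * c) from fun s => by ring, ← mul_neg,
        Finset.sum_add_distrib, sum_ζ_mul]
      rw [if_neg (mul_ne_zero hi h.c_ne), if_neg (mul_ne_zero hi (neg_ne_zero.mpr h.c_ne)), add_zero]
    have hsplit : (Finset.univ : Finset (ZMod p)) = insert 0 (insert 2 (insert (-2) S)) := by
      ext s; simp [hSdef]; tauto
    rw [hsplit, Finset.sum_insert (by simp [hSdef, h20.symm, h20]), Finset.sum_insert (by simp [hSdef, h2n]),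
      Finset.sum_insert (by simp [hSdef])] at hall
    have hsq := etaSum_sq (i * c)
    simp only [etaSum, zero_mul, mul_zero, neg_zero, ζ_zero, show i * ((-2 : ZMod p) * c) = -(2 * (i * c)) by ring,
      show i * ((2 : ZMod p) * c) = 2 * (i * c) by ring, neg_neg] at hall hsq ⊢
    push_cast
    rw [show (2 : ZMod p) * i * c = 2 * (i * c) by ring]
    linear_combination w ^ 2 * hsq + w ^ 2 * hall
  -- multiplicities
  have hinner : ∀ s ∈ S, 2 * (a (W s) : ℂ) = 2 * (a (W 2) : ℂ) + 2 := by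
    intro s hs
    obtain ⟨hs0, hs2, hs2'⟩ := (hmemS s).mp hs
    have hzero : classInner (F1 - F2) ((W s : G → ℂ) - (W 2 : G → ℂ)) = 0 := by
      rw [classInner, Finset.sum_eq_zero, mul_zero]
      intro g _
      by_cases hg : p ∣ orderOf g
      · rw [Pi.sub_apply, hsing g hg, sub_self, zero_mul]
      · rw [Pi.sub_apply (W s : G → ℂ), (hW s hs0).1 g hg, (hW 2 h20).1 g hg, sub_self, map_zero, mul_zero]
    have hF2in : ∀ t : ZMod p, t ≠ 0 → classInner F2 (W t : G → ℂ) = ((S.filter fun r => r = t ∨ r = -t).card : ℂ) := by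
      intro t ht
      rw [hF2, Char.classInner_sum_left, Finset.natCast_card_filter]
      refine Finset.sum_congr rfl fun r hr => ?_
      have hr0 := ((hmemS r).mp hr).1
      by_cases he : r = t ∨ r = -t
      · rw [if_pos he, (hWeq r t hr0 ht).mpr he, Char.classInner_irr_self (W t).2]
      · rw [if_neg he, Char.classInner_irr_of_ne (W r).2 (W t).2 fun e => he ((hWeq r t hr0 ht).mp (Subtype.ext e))]
    rw [Char.classInner_sub_left, Char.classInner_sub_right, Char.classInner_sub_right, hF1,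
      Char.classInner_smul_left, Char.classInner_smul_left, hain, hain, hF2in s hs0, hF2in 2 h20] at hzero
    have e1 : S.filter (fun r => r = (2 : ZMod p) ∨ r = -2) = ∅ := by
      ext r; simp [hSdef]
    have hsn : s ≠ -s := fun e => hs0 (by
      have h3 : (2 : ZMod p) * s = 0 := by linear_combination e
      exact (mul_eq_zero.mp h3).resolve_left h20)
    have e2 : S.filter (fun r => r = s ∨ r = -s) = {s, -s} := by
      ext r
      simp only [Finset.mem_filter, Finset.mem_insert, Finset.mem_singleton]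
      refine ⟨fun hh => hh.2, fun hh => ⟨?_, hh⟩⟩
      rcases hh with rfl | rfl
      · exact hs
      · exact (hmemS _).mpr ⟨neg_ne_zero.mpr hs0, fun e => hs2' (by rw [← e, neg_neg]),
          fun e => hs2 (neg_inj.mp e)⟩
    rw [e1, e2, Finset.card_pair hsn, Finset.card_empty] at hzero
    push_cast at hzero
    linear_combination hzero
  set I := S.image W with hI
  have hIcard : 2 * I.card = p - 3 := by
    rw [← hscard, Finset.card_eq_sum_card_image W S, Finset.sum_congr rfl (g := fun _ => 2) ?_, Finset.sum_const,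
      smul_eq_mul, mul_comm]
    intro ψ hψ
    obtain ⟨s, hs, rfl⟩ := Finset.mem_image.mp hψ
    obtain ⟨hs0, hs2, hs2'⟩ := (hmemS s).mp hs
    rw [show S.filter (fun r => W r = W s) = {s, -s} from ?_, Finset.card_pair fun e => hs0 (by
      have h3 : (2 : ZMod p) * s = 0 := by linear_combination e
      exact (mul_eq_zero.mp h3).resolve_left h20)]
    ext r
    simp only [Finset.mem_filter, Finset.mem_insert, Finset.mem_singleton]
    refine ⟨fun hh => (hWeq r s ((hmemS r).mp hh.1).1 hs0).mp hh.2, fun hh => ?_⟩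
    have hr : r ∈ S := by
      rcases hh with rfl | rfl
      · exact hs
      · exact (hmemS _).mpr ⟨neg_ne_zero.mpr hs0, fun e => hs2' (by rw [← e, neg_neg]),
          fun e => hs2 (neg_inj.mp e)⟩
    exact ⟨hr, (hWeq r s ((hmemS r).mp hr).1 hs0).mpr hh⟩
  have hW1 : ∀ s ∈ S, (W s : G → ℂ) 1 = (n : ℂ) := fun s hs => by
    rw [(hW s ((hmemS s).mp hs).1).1 1 (by rw [orderOf_one]; exact fun hd => hpp.ne_one (Nat.dvd_one.mp hd)),
      one_pow, hn, charDegree_cast]
  have hIdeg : ∀ ψ ∈ I, charDegree (ψ : G → ℂ) = n := fun ψ hψ => by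
    obtain ⟨s, hs, rfl⟩ := Finset.mem_image.mp hψ
    exact Nat.cast_injective (R := ℂ) (by rw [charDegree_cast, hW1 s hs])
  have hIa : ∀ ψ ∈ I, 1 ≤ a ψ := fun ψ hψ => by
    obtain ⟨s, hs, rfl⟩ := Finset.mem_image.mp hψ
    have h1 : 2 * a (W s) = 2 * a (W 2) + 2 := by exact_mod_cast hinner s hs
    omega
  have hdsum : ∑ ψ, a ψ * charDegree (ψ : G → ℂ) = I.card * n := by
    apply Nat.cast_injective (R := ℂ)
    have h1 := congrFun ha 1
    simp only [Finset.sum_apply, Pi.smul_apply, smul_eq_mul, extSq, one_pow, ← charDegree_cast, ← hn] at h1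
    push_cast
    rw [← h1]
    have h2 : 2 * (I.card : ℂ) = (n : ℂ) - 1 := by
      have h3 : ((2 * I.card + 1 : ℕ) : ℂ) = (n : ℂ) := by rw [show 2 * I.card + 1 = n by omega]
      push_cast at h3
      linear_combination h3
    linear_combination (-(n : ℂ) / 2) * h2
  have hzero : ∀ ψ, a ψ = if ψ ∈ I then 1 else 0 := by
    have hle : ∀ ψ, (if ψ ∈ I then 1 else 0) ≤ a ψ := fun ψ => by
      split_ifs with hh
      · exact hIa ψ hh
      · exact Nat.zero_le _
    have hsum : ∑ ψ, (if ψ ∈ I then 1 else 0) * charDegree (ψ : G → ℂ) = ∑ ψ, a ψ * charDegree (ψ : G → ℂ) := by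
      simp only [ite_mul, one_mul, zero_mul, Finset.sum_ite_mem, Finset.univ_inter]
      rw [hdsum, Finset.sum_congr rfl hIdeg, Finset.sum_const, smul_eq_mul]
    intro ψ
    have := (Finset.sum_eq_sum_iff_of_le fun ψ _ => Nat.mul_le_mul_right _ (hle ψ)).mp hsum ψ (Finset.mem_univ _)
    exact (Nat.eq_of_mul_eq_mul_right (charDegree_pos ψ) this).symm
  refine ⟨k0, hk0c, fun g hg => ?_⟩
  have h1 := congrFun ha g
  simp only [Finset.sum_apply, Pi.smul_apply, smul_eq_mul, hzero, Nat.cast_ite, Nat.cast_one, Nat.cast_zero,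
    ite_mul, one_mul, zero_mul, Finset.sum_ite_mem, Finset.univ_inter] at h1
  rw [Finset.sum_congr rfl (g := fun _ => (χ : G → ℂ) (g ^ k0)) (fun ψ hψ => by
    obtain ⟨s, hs, rfl⟩ := Finset.mem_image.mp hψ
    exact (hW s ((hmemS s).mp hs).1).1 g hg), Finset.sum_const, nsmul_eq_mul, extSq] at h1
  have h3 : ((2 * I.card + 1 : ℕ) : ℂ) = (n : ℂ) := by rw [show 2 * I.card + 1 = n by omega]
  push_cast at h3
  rw [← h3]
  linear_combination 2 * h1

end Cfsg.Agent.DegPMinusTwo
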