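/-
The regular values of a faithful irreducible character of degree `p - 2` (namespace `Cfsg.Agent.DegPMinusTwo`).

Main results: `norm_sq_sub_lt`, `involution_value`, `eq_zero_of_regular` (the character vanishes at the regular
elements whose square is not central), `sq_mem_of_pow_four`.
-/
import Cfsg.Agent.Lib.DegPMinusTwo.Identity
import Cfsg.Agent.Lib.GaloisAvg.Basic

set_option autoImplicit false
set_option linter.unusedSectionVars false
set_option linter.style.haveILetI false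

open scoped ComplexConjugate

namespace Cfsg.Agent.DegPMinusTwo

open Cfsg Cfsg.Agent.Blocks Cfsg.Agent.CyclicDefect

/-- Many unit vectors with nearly maximal sum. -/
theorem norm_sq_sub_lt {ι : Type*} [Fintype ι] (w : ι → ℂ) (hw : ∀ i, ‖w i‖ = 1)
    (hn : 5 ≤ Fintype.card ι) (h1 : (Fintype.card ι : ℝ) - 2 ≤ ‖∑ i, w i‖)
    (h2 : ‖∑ i, w i‖ < Fintype.card ι) :
    ‖(∑ i, w i) ^ 2 - ∑ i, w i ^ 2‖ < ((Fintype.card ι : ℝ) - 1) * ‖∑ i, w i‖ := by
  set n : ℝ := (Fintype.card ι : ℝ) with hn'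
  have hn5 : (5 : ℝ) ≤ n := by rw [hn']; exact_mod_cast hn
  set m : ℝ := ‖∑ i, w i‖ with hm
  have hm0 : 0 < m := by linarith
  set r : ℂ := conj (∑ i, w i) / (m : ℂ) with hr
  have hmc : (m : ℂ) ≠ 0 := Complex.ofReal_ne_zero.mpr hm0.ne'
  have hrn : ‖r‖ = 1 := by
    rw [hr, norm_div, Complex.norm_conj, Complex.norm_real, Real.norm_of_nonneg hm0.le, ← hm, div_self hm0.ne']
  set v : ι → ℂ := fun i => w i * r with hv
  have hsum : ∑ i, v i = (m : ℂ) := by
    rw [hv, ← Finset.sum_mul, hr, mul_div_assoc', Complex.mul_conj', ← hm, pow_two, mul_div_assoc, div_self hmc,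
      mul_one]
  have hv1 : ∀ i, (v i).re * (v i).re + (v i).im * (v i).im = 1 := fun i => by
    have : ‖v i‖ = 1 := by rw [hv, norm_mul, hw, hrn, one_mul]
    rw [← Complex.normSq_apply, Complex.normSq_eq_norm_sq, this, one_pow]
  have hkey : ‖(∑ i, w i) ^ 2 - ∑ i, w i ^ 2‖ = ‖(m : ℂ) ^ 2 - ∑ i, v i ^ 2‖ := by
    rw [← hsum, hv, ← Finset.sum_mul]
    simp only [mul_pow, ← Finset.sum_mul, ← sub_mul]
    rw [norm_mul, norm_pow r, hrn, one_pow, mul_one]
  rw [hkey]
  set a : ι → ℝ := fun i => (v i).re with ha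
  set b : ι → ℝ := fun i => (v i).im with hb
  have hsa : ∑ i, a i = m := by rw [ha, ← Complex.re_sum, hsum, Complex.ofReal_re]
  have hsb : ∑ i, b i = 0 := by rw [hb, ← Complex.im_sum, hsum, Complex.ofReal_im]
  set u : ℝ := ∑ i, b i ^ 2 with hu
  set q : ℝ := ∑ i, (1 - a i) ^ 2 with hq
  have huq : u + q = 2 * (n - m) := by
    have h : ∀ i, b i ^ 2 + (1 - a i) ^ 2 = 2 - 2 * a i := fun i => by
      have := hv1 i
      simp only [ha, hb] at this ⊢
      linear_combination this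
    rw [hu, hq, ← Finset.sum_add_distrib, Finset.sum_congr rfl fun i _ => h i, Finset.sum_sub_distrib,
      ← Finset.mul_sum, hsa, Finset.sum_const, Finset.card_univ, nsmul_eq_mul, ← hn']
    ring
  have hu0 : 0 ≤ u := Finset.sum_nonneg fun i _ => sq_nonneg _
  have hq0 : 0 < q := by
    refine lt_of_le_of_ne (Finset.sum_nonneg fun i _ => sq_nonneg _) fun h0 => ?_
    have := (Finset.sum_eq_zero_iff_of_nonneg fun i _ => sq_nonneg (1 - a i)).mp h0.symm
    have hall : ∀ i, a i = 1 := fun i => by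
      have h3 := sq_eq_zero_iff.mp (this i (Finset.mem_univ i))
      linarith
    rw [Finset.sum_congr rfl fun i _ => hall i, Finset.sum_const, Finset.card_univ, nsmul_eq_mul, mul_one,
      ← hn'] at hsa
    linarith
  set A : ℝ := m ^ 2 - n + 2 * u with hA
  set B : ℝ := ((m : ℂ) ^ 2 - ∑ i, v i ^ 2).im with hB
  have hre : ((m : ℂ) ^ 2 - ∑ i, v i ^ 2).re = A := by
    have h : ∀ i, (v i ^ 2).re = 1 - 2 * b i ^ 2 := fun i => by
      have := hv1 i
      simp only [hb, pow_two, Complex.mul_re]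
      linear_combination this
    rw [Complex.sub_re, Complex.re_sum, Finset.sum_congr rfl fun i _ => h i, Finset.sum_sub_distrib,
      ← Finset.mul_sum, ← hu, Finset.sum_const, Finset.card_univ, nsmul_eq_mul, mul_one, ← hn', hA,
      ← Complex.ofReal_pow, Complex.ofReal_re]
    ring
  have hB2 : B ^ 2 ≤ 4 * (q * u) := by
    have h : ∀ i, (v i ^ 2).im = 2 * b i - 2 * ((1 - a i) * b i) := fun i => by
      simp only [ha, hb, pow_two, Complex.mul_im]
      ring
    have hB' : B = 2 * ∑ i, (1 - a i) * b i := by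
      rw [hB, Complex.sub_im, Complex.im_sum, Finset.sum_congr rfl fun i _ => h i, Finset.sum_sub_distrib,
        ← Finset.mul_sum, ← Finset.mul_sum, hsb, ← Complex.ofReal_pow, Complex.ofReal_im]
      ring
    rw [hB', mul_pow]
    have := Finset.sum_mul_sq_le_sq_mul_sq Finset.univ (fun i => 1 - a i) b
    rw [← hq, ← hu] at this
    nlinarith
  have hm2 : n < m ^ 2 := by nlinarith
  have hqe : q = 2 * (n - m) - u := by linarith
  set C : ℝ := m ^ 2 - n + 4 * (n - m) with hC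
  have hC0 : 0 ≤ C := by rw [hC]; linarith
  have hsq : A * A + B * B < C * C := by
    rw [hqe] at hB2 hq0
    rw [hA, hC]
    nlinarith [mul_pos (show (0:ℝ) < m ^ 2 - n + 2 * (n - m) by nlinarith) hq0]
  have hlt : ‖(m : ℂ) ^ 2 - ∑ i, v i ^ 2‖ < C := by
    rw [Complex.norm_eq_sqrt_sq_add_sq, hre, ← hB]
    refine (Real.sqrt_lt' (lt_of_le_of_ne hC0 ?_)).mpr (by rw [pow_two, pow_two, pow_two]; exact hsq)
    rw [hC]
    intro h0
    linarith
  refine hlt.trans_le ?_
  rw [hC]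
  nlinarith [mul_nonpos_of_nonpos_of_nonneg (show m - n ≤ 0 by linarith) (show (0:ℝ) ≤ m - 3 by linarith)]

variable {G : Type*} [Group G] [Finite G] {p : ℕ} [Fact p.Prime] {x : G} {L : Subgroup G}
  {χ : IrrCharacter G} {c : ZMod p}

theorem not_dvd_orderOf_pow {g : G} (hg : ¬ p ∣ orderOf g) (k : ℕ) : ¬ p ∣ orderOf (g ^ k) :=
  fun h => hg (h.trans (orderOf_pow_dvd k))

theorem sq_mem_of_pow_sq_mem {H : Subgroup G} {g : G} {k : ℕ} (hk : k.Coprime (orderOf g))
    (h : (g ^ k) ^ 2 ∈ H) : g ^ 2 ∈ H := by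
  obtain ⟨m, hm⟩ := exists_pow_eq_self_of_coprime hk
  rw [← hm, ← pow_mul, mul_comm, pow_mul]
  exact Subgroup.pow_mem _ h m

theorem regular_of_sq_mem (hS : Setting p x L) (h : Data p x L χ c) (hp : 5 < p) {g : G}
    (h2 : g ^ 2 ∈ Subgroup.center G) : ¬ p ∣ orderOf g := by
  intro hd
  obtain ⟨k, hk⟩ := h.center_le _ h2
  refine hS.regular_K k ?_
  rw [← hk, orderOf_pow' _ two_ne_zero]
  refine Nat.dvd_div_of_mul_dvd ?_
  have h2' : Nat.gcd (orderOf g) 2 ∣ 2 := Nat.gcd_dvd_right _ _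
  refine Nat.Coprime.mul_dvd_of_dvd_of_dvd ?_ (Nat.gcd_dvd_left _ _) hd
  refine (hS.hp.coprime_iff_not_dvd.mpr fun hh => ?_).symm
  have := Nat.le_of_dvd two_pos (hh.trans h2')
  omega

open scoped Classical in
/-- The value at an involution is `-1`. -/
theorem involution_value (hS : Setting p x L) (h : Data p x L χ c) (hp : 5 < p)
    (hdeg : charDegree (χ : G → ℂ) = p - 2) (hf : ∀ g : G, (χ : G → ℂ) g = (χ : G → ℂ) 1 → g = 1)
    (hperf : commutator G = ⊤) {u : G} (hu : u ^ 2 = 1) (hu1 : u ≠ 1) : (χ : G → ℂ) u = -1 := by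
  obtain ⟨k0, hk0, hid⟩ := exists_exponent hS h hp hdeg hf hperf
  have hreg : ¬ p ∣ orderOf u := regular_of_sq_mem hS h hp (by rw [hu]; exact one_mem _)
  have ho : orderOf u = 2 := orderOf_eq_prime hu hu1
  have h2m : 2 ∣ Nat.card G / p := ho ▸ hS.dvd_of_regular hreg
  have hodd : k0 % 2 = 1 := by
    have := Nat.Coprime.coprime_dvd_right h2m hk0
    rw [Nat.coprime_two_right, Nat.odd_iff] at this
    exact this
  have hk : u ^ k0 = u := by rw [← pow_mod_orderOf, ho, hodd, pow_one]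
  have h1 := hid u hreg
  rw [hu, hk, ← charDegree_cast χ] at h1
  have : ((χ : G → ℂ) u - (charDegree (χ : G → ℂ) : ℂ)) * ((χ : G → ℂ) u + 1) = 0 := by linear_combination h1
  rcases mul_eq_zero.mp this with h2 | h2
  · refine absurd (hf u ?_) hu1
    rw [← charDegree_cast χ]
    exact sub_eq_zero.mp h2
  · exact eq_neg_of_add_eq_zero_left h2

theorem norm_eq_one_of_sq_mem (hS : Setting p x L) (h : Data p x L χ c) (hp : 5 < p)
    (hdeg : charDegree (χ : G → ℂ) = p - 2) (hf : ∀ g : G, (χ : G → ℂ) g = (χ : G → ℂ) 1 → g = 1)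
    (hperf : commutator G = ⊤) {g : G} (hg : g ∉ Subgroup.center G) (h2 : g ^ 2 ∈ Subgroup.center G) :
    ‖(χ : G → ℂ) g‖ = 1 := by
  set n := charDegree (χ : G → ℂ) with hn
  have hp2 := hS.hp.eq_two_or_odd
  obtain ⟨t, ht⟩ : ∃ t, n = 2 * t + 1 := ⟨n / 2, by omega⟩
  have hz : (g ^ 2) ^ t ∈ Subgroup.center G := Subgroup.pow_mem _ h2 t
  have hgz : g ^ n = g * (g ^ 2) ^ t := by rw [ht, ← pow_mul, pow_succ']
  have hu : (g ^ n) ^ 2 = 1 := by rw [← pow_mul, mul_comm, pow_mul]; exact center_pow_eq_one hf hperf h2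
  have hu1 : g ^ n ≠ 1 := fun e => hg (by
    rw [hgz, mul_eq_one_iff_eq_inv] at e
    rw [e]; exact Subgroup.inv_mem _ hz)
  obtain ⟨ω, hω1, hω2, hω3⟩ := exists_scalar χ hz
  have hωn : ‖ω‖ = 1 := Complex.norm_eq_one_of_pow_eq_one (hω3 hperf) (by omega)
  have hv := involution_value hS h hp hdeg hf hperf hu hu1
  rw [hgz, (Subgroup.mem_center_iff.mp hz g), hω2] at hv
  have := congrArg norm hv
  rwa [norm_mul, hωn, one_mul, norm_neg, norm_one] at this

set_option maxHeartbeats 800000 in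
open scoped Classical in
/-- The character vanishes at regular elements with square outside the centre. -/
theorem eq_zero_of_regular (hS : Setting p x L) (h : Data p x L χ c) (hp : 5 < p)
    (hdeg : charDegree (χ : G → ℂ) = p - 2) (hf : ∀ g : G, (χ : G → ℂ) g = (χ : G → ℂ) 1 → g = 1)
    (hperf : commutator G = ⊤) {g₀ : G} (hg₀ : ¬ p ∣ orderOf g₀) (h0 : g₀ ^ 2 ∉ Subgroup.center G) :
    (χ : G → ℂ) g₀ = 0 := by
  have := Fintype.ofFinite G
  have hpp := hS.hp
  have hp2 := hpp.eq_two_or_odd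
  set n := charDegree (χ : G → ℂ) with hn
  obtain ⟨k0, hk0, hid⟩ := exists_exponent hS h hp hdeg hf hperf
  set R : Finset G := Finset.univ.filter fun g => ¬ p ∣ orderOf g ∧ g ^ 2 ∉ Subgroup.center G with hR
  have hmem : ∀ g, g ∈ R ↔ ¬ p ∣ orderOf g ∧ g ^ 2 ∉ Subgroup.center G := fun g => by simp [hR]
  have hcl : ∀ g ∈ R, ∀ k : ℕ, k.Coprime (orderOf g) → g ^ k ∈ R := by
    intro g hg k hk
    rw [hmem] at hg ⊢
    exact ⟨not_dvd_orderOf_pow hg.1 k, fun hc => hg.2 (sq_mem_of_pow_sq_mem hk hc)⟩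
  have hne : R.Nonempty := ⟨g₀, (hmem g₀).mpr ⟨hg₀, h0⟩⟩
  obtain ⟨hmax, hhR, hmaxle⟩ := R.exists_max_image (fun g => ‖(χ : G → ℂ) g‖) hne
  set M := ‖(χ : G → ℂ) hmax‖ with hM
  have hM1 : M < 1 := by
    by_contra hge
    push Not at hge
    obtain ⟨hreg, h2⟩ := (hmem hmax).mp hhR
    have hco : k0.Coprime (orderOf hmax) := Nat.Coprime.coprime_dvd_right (hS.dvd_of_regular hreg) hk0
    obtain ⟨m, hm⟩ := exists_pow_eq_self_of_coprime hco
    set g := hmax ^ m
    have hgk : g ^ k0 = hmax := by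
      show (hmax ^ m) ^ k0 = hmax
      rw [← pow_mul, mul_comm, pow_mul, hm]
    have hgR : g ∈ R := by
      rw [hmem]
      refine ⟨not_dvd_orderOf_pow hreg m, fun hc => h2 ?_⟩
      rw [← hgk, ← pow_mul, mul_comm, pow_mul]
      exact Subgroup.pow_mem _ hc k0
    obtain ⟨hgreg, hg2⟩ := (hmem g).mp hgR
    have hgc : g ∉ Subgroup.center G := fun hc => hg2 (Subgroup.pow_mem _ hc 2)
    have hsq : ‖(χ : G → ℂ) (g ^ 2)‖ ≤ M := by
      by_cases h4 : (g ^ 2) ^ 2 ∈ Subgroup.center G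
      · rw [norm_eq_one_of_sq_mem hS h hp hdeg hf hperf hg2 h4]; exact hge
      · exact hmaxle _ ((hmem _).mpr ⟨not_dvd_orderOf_pow hgreg 2, h4⟩)
    have hs : ‖(χ : G → ℂ) g‖ ≤ M := hmaxle g hgR
    have hid' := congrArg norm (hid g hgreg)
    rw [hgk, norm_mul, ← hn, ← hM, show ((n : ℂ) - 1) = (((n - 1 : ℕ)) : ℂ) by
      rw [Nat.cast_sub (by omega), Nat.cast_one], Complex.norm_natCast, Nat.cast_sub (by omega), Nat.cast_one] at hid'
    have hn5 : (5 : ℝ) ≤ n := by exact_mod_cast (show 5 ≤ n by omega)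
    obtain ⟨N, ρ, hirr, hρ⟩ := χ.2
    have hNn : N = n := by
      apply Nat.cast_injective (R := ℂ)
      rw [hn, charDegree_cast, ← hρ, Representation.char_one, Module.finrank_fin_fun]
    obtain ⟨b, μ, hμ, hroot⟩ := Char.exists_eigenbasis ρ g
    have hμ1 : ∀ i, ‖μ i‖ = 1 := fun i => Complex.norm_eq_one_of_pow_eq_one (hroot i) (orderOf_pos g).ne'
    have hs1 : (χ : G → ℂ) g = ∑ i, μ i := by rw [← hρ]; exact Char.character_eq_sum_eigenvalues ρ g b μ hμ
    have hs2 : (χ : G → ℂ) (g ^ 2) = ∑ i, μ i ^ 2 := by rw [← hρ]; exact Char.character_pow ρ g b μ hμ 2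
    have hcard : Fintype.card (Fin (Module.finrank ℂ (Fin N → ℂ))) = n := by
      rw [Fintype.card_fin, Module.finrank_fin_fun, hNn]
    by_cases hbig : (n : ℝ) - 2 ≤ ‖(χ : G → ℂ) g‖
    · have hltn : ‖(χ : G → ℂ) g‖ < n := by
        refine lt_of_le_of_ne ?_ fun e => hgc (mem_center_of_norm hf (by rw [e]))
        rw [hs1]
        refine (norm_sum_le _ _).trans ?_
        rw [Finset.sum_congr rfl fun i _ => hμ1 i, Finset.sum_const, Finset.card_univ, hcard, nsmul_eq_mul, mul_one]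
      have := norm_sq_sub_lt μ hμ1 (by omega) (by rw [hcard, ← hs1]; exact hbig) (by rw [hcard, ← hs1]; exact hltn)
      rw [hcard, ← hs1, ← hs2, hid'] at this
      nlinarith
    · push Not at hbig
      have h3 : ((n : ℝ) - 1) * M ≤ ‖(χ : G → ℂ) g‖ ^ 2 + M := by
        rw [← hid', ← norm_pow]
        exact (norm_sub_le _ _).trans (by linarith)
      have h4 := norm_nonneg ((χ : G → ℂ) g)
      nlinarith [mul_le_mul_of_nonneg_right hs h4, mul_lt_mul_of_pos_left hbig (show (0:ℝ) < M by linarith)]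
  by_contra hne0
  set S := R.filter fun g => (χ : G → ℂ) g ≠ 0 with hSdef
  have hcv := GaloisAvg.cycloValued_character (Char.IsIrrCharacter.isCharacter χ.2)
  have h1 := GaloisAvg.card_le_sum_norm_pow hcv S (fun g hg k hk => ?_) (fun g hg => (Finset.mem_filter.mp hg).2) 1
  · have h2 : ∑ g ∈ S, ‖(χ : G → ℂ) g‖ ^ 1 < ∑ g ∈ S, (1 : ℝ) := by
      refine Finset.sum_lt_sum_of_nonempty ⟨g₀, Finset.mem_filter.mpr ⟨(hmem g₀).mpr ⟨hg₀, h0⟩, hne0⟩⟩ fun g hg => ?_
      rw [pow_one]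
      exact (hmaxle g (Finset.mem_filter.mp hg).1).trans_lt hM1
    rw [Finset.sum_const, nsmul_eq_mul, mul_one] at h2
    linarith
  · obtain ⟨hgR, hg0⟩ := Finset.mem_filter.mp hg
    refine Finset.mem_filter.mpr ⟨hcl g hgR k (Nat.Coprime.coprime_dvd_right (orderOf_dvd_natCard g) hk), ?_⟩
    obtain ⟨f, hf'⟩ := GaloisPow.exists_galois G hk
    rw [← hf' _ (Char.IsIrrCharacter.isCharacter χ.2) g]
    exact fun e => hg0 (f.map_eq_zero_iff.mp e)

/-- No element has order `4` modulo the centre. -/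
theorem sq_mem_of_pow_four (hS : Setting p x L) (h : Data p x L χ c) (hp : 5 < p)
    (hdeg : charDegree (χ : G → ℂ) = p - 2) (hf : ∀ g : G, (χ : G → ℂ) g = (χ : G → ℂ) 1 → g = 1)
    (hperf : commutator G = ⊤) {g : G} (hg : ¬ p ∣ orderOf g) (h4 : (g ^ 2) ^ 2 ∈ Subgroup.center G) :
    g ^ 2 ∈ Subgroup.center G := by
  by_contra h2
  obtain ⟨k0, hk0, hid⟩ := exists_exponent hS h hp hdeg hf hperf
  have h1 := hid g hg
  have hz1 := eq_zero_of_regular hS h hp hdeg hf hperf hg h2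
  have hz2 : (χ : G → ℂ) (g ^ k0) = 0 := by
    exact eq_zero_of_regular hS h hp hdeg hf hperf (not_dvd_orderOf_pow hg k0) fun hc =>
      h2 (sq_mem_of_pow_sq_mem (Nat.Coprime.coprime_dvd_right (hS.dvd_of_regular hg) hk0) hc)
  have hv := norm_eq_one_of_sq_mem hS h hp hdeg hf hperf h2 h4
  rw [hz1, hz2, mul_zero, zero_pow two_ne_zero, zero_sub, neg_eq_zero] at h1
  rw [h1, norm_zero] at hv
  exact zero_ne_one hv

end Cfsg.Agent.DegPMinusTwo
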