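/-
Centralisers of involutions for a faithful irreducible character of degree `p - 2`
(namespace `Cfsg.Agent.DegPMinusTwo`).

Main results: `exists_conj_mem_zpowers`, `involution_noncentral`, `sq_mem_center_of_commute` (the centraliser of an
involution is elementary abelian modulo the centre).
-/
import Cfsg.Agent.Lib.DegPMinusTwo.Zero

set_option autoImplicit false
set_option linter.unusedSectionVars false
set_option linter.style.haveILetI false

open scoped ComplexConjugate Pointwise

namespace Cfsg.Agent.DegPMinusTwo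

open Cfsg Cfsg.Agent.Blocks Cfsg.Agent.CyclicDefect

variable {G : Type*} [Group G] [Finite G] {p : ℕ} [Fact p.Prime] {x : G} {L : Subgroup G}

/-- The Sylow subgroup generated by `x`. -/
theorem exists_sylow_zpowers (hS : Setting p x L) :
    ∃ P : Sylow p G, (P : Subgroup G) = Subgroup.zpowers x := by
  refine ⟨Sylow.ofCard (Subgroup.zpowers x) ?_, rfl⟩
  rw [hS.card_zpowers_eq, hS.factorization_card, pow_one]

/-- An element of order `p` is conjugate to a power of `x`. -/
theorem exists_conj_mem_zpowers (hS : Setting p x L) {y : G} (hy : orderOf y = p) :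
    ∃ g : G, g * y * g⁻¹ ∈ Subgroup.zpowers x := by
  obtain ⟨P, hP⟩ := exists_sylow_zpowers hS
  have hy' : IsPGroup p (Subgroup.zpowers y) := IsPGroup.of_card (n := 1) (by rw [Nat.card_zpowers, hy, pow_one])
  obtain ⟨Q, hQ⟩ := hy'.exists_le_sylow
  obtain ⟨g, hg⟩ := MulAction.exists_smul_eq G Q P
  refine ⟨g, ?_⟩
  rw [← hP, ← hg, Sylow.coe_subgroup_smul]
  have := Subgroup.smul_mem_pointwise_smul y (MulAut.conj g) _ (hQ (Subgroup.mem_zpowers y))
  simpa [MulAut.smul_def] using this

variable {χ : IrrCharacter G} {c : ZMod p}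

/-- An involution is not central. -/
theorem involution_noncentral (hp : 5 < p) (hdeg : charDegree (χ : G → ℂ) = p - 2)
    (hf : ∀ g : G, (χ : G → ℂ) g = (χ : G → ℂ) 1 → g = 1) (hperf : commutator G = ⊤) {u : G} (hu : u ^ 2 = 1)
    (hc : u ∈ Subgroup.center G) : u = 1 := by
  have h1 := center_pow_eq_one hf hperf hc
  have hp2 := (Fact.out : p.Prime).eq_two_or_odd
  rw [hdeg, show p - 2 = 2 * ((p - 3) / 2) + 1 by omega, pow_succ, pow_mul, hu, one_pow, one_mul] at h1
  exact h1

/-- The centraliser of an involution consists of regular elements. -/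
theorem regular_of_commute (hS : Setting p x L) (h : Data p x L χ c) (hp : 5 < p)
    (hdeg : charDegree (χ : G → ℂ) = p - 2) (hf : ∀ g : G, (χ : G → ℂ) g = (χ : G → ℂ) 1 → g = 1)
    (hperf : commutator G = ⊤) {u a : G} (hu : u ^ 2 = 1) (hu1 : u ≠ 1) (ha : Commute a u) : ¬ p ∣ orderOf a := by
  intro hd
  set y := a ^ (orderOf a / p) with hy
  have hyo : orderOf y = p := orderOf_pow_orderOf_div (orderOf_pos a).ne' hd
  obtain ⟨g, hg⟩ := exists_conj_mem_zpowers hS hyo
  obtain ⟨i, hi⟩ := hS.exists_pw hg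
  have hi0 : i ≠ 0 := by
    rintro rfl
    rw [hS.pw_zero] at hi
    have : y = 1 := conj_eq_one_iff.mp hi
    rw [this, orderOf_one] at hyo
    exact hS.hp.ne_one hyo.symm
  set v := g * u * g⁻¹ with hv
  have hc : Commute (pw x i) v := by
    rw [← hi, hv]
    show g * y * g⁻¹ * (g * u * g⁻¹) = g * u * g⁻¹ * (g * y * g⁻¹)
    have := (ha.pow_left (orderOf a / p)).eq
    calc g * y * g⁻¹ * (g * u * g⁻¹) = g * (y * u) * g⁻¹ := by group
      _ = g * (u * y) * g⁻¹ := by rw [this]
      _ = _ := by group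
  have hcx : Commute x v := (hS.commute_pw_iff hi0).mp hc
  have hv2 : v ^ 2 = 1 := by rw [hv, conj_pow, hu, mul_one, mul_inv_cancel]
  have hreg : ¬ p ∣ orderOf v := fun hd2 => by
    have := Nat.le_of_dvd two_pos (hd2.trans (orderOf_dvd_of_pow_eq_one hv2))
    omega
  obtain ⟨k, hk⟩ := hS.exists_K_of_regular hcx hreg
  have hv1 : v = 1 := involution_noncentral hp hdeg hf hperf hv2 (hk ▸ h.K_le k)
  exact hu1 (conj_eq_one_iff.mp hv1)

/-- The norm of the restriction to a cyclic subgroup. -/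
theorem exists_nat_norm_zpowers (χ : IrrCharacter G) (g : G) :
    ∃ N : ℕ, ∑ i ∈ Finset.range (orderOf g), (χ : G → ℂ) (g ^ i) * conj ((χ : G → ℂ) (g ^ i)) =
      (orderOf g : ℂ) * N := by
  have := Fintype.ofFinite (Subgroup.zpowers g)
  have hr := Char.IsCharacter.restrict (Char.IsIrrCharacter.isCharacter χ.2) (Subgroup.zpowers g)
  obtain ⟨N, hN⟩ := Char.IsCharacter.classInner_nat hr hr
  refine ⟨N, ?_⟩
  rw [← hN, classInner, Nat.card_zpowers, ← mul_assoc, mul_inv_cancel₀ (Nat.cast_ne_zero.mpr (orderOf_pos g).ne'),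
    one_mul, ← Fin.sum_univ_eq_sum_range (fun i => (χ : G → ℂ) (g ^ i) * conj ((χ : G → ℂ) (g ^ i)))]
  exact Fintype.sum_equiv (finEquivZPowers (isOfFinOrder_of_finite g)) _ _ fun i => by rw [finEquivZPowers_apply]

theorem sum_range_multiples {M : Type*} [AddCommMonoid M] {f : ℕ → M} {r : ℕ} (hr : 0 < r)
    (h : ∀ i, ¬ r ∣ i → f i = 0) (K : ℕ) :
    ∑ i ∈ Finset.range (r * K), f i = ∑ j ∈ Finset.range K, f (r * j) := by
  induction K with
  | zero => simp
  | succ K ih =>
    rw [Nat.mul_succ, Finset.sum_range_add, ih, Finset.sum_range_succ]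
    congr 1
    rw [Finset.sum_eq_single 0 (fun i hi hi0 => h _ fun hd => ?_)
      (fun h0 => absurd (Finset.mem_range.mpr hr) h0), add_zero]
    have h1 : r ∣ i := (Nat.dvd_add_right (dvd_mul_right r K)).mp hd
    have := Nat.le_of_dvd (Nat.pos_of_ne_zero hi0) h1
    have := Finset.mem_range.mp hi
    omega

open scoped Classical in
/-- No element of odd order modulo the centre commutes with an involution. -/
theorem mem_center_of_commute (hS : Setting p x L) (h : Data p x L χ c) (hp : 5 < p)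
    (hdeg : charDegree (χ : G → ℂ) = p - 2) (hf : ∀ g : G, (χ : G → ℂ) g = (χ : G → ℂ) 1 → g = 1)
    (hperf : commutator G = ⊤) {u a : G} (hu : u ^ 2 = 1) (hu1 : u ≠ 1) (ha : Commute a u)
    {r : ℕ} (hr : r.Prime) (hr2 : r ≠ 2) (har : a ^ r ∈ Subgroup.center G) : a ∈ Subgroup.center G := by
  by_contra hanc
  set n := charDegree (χ : G → ℂ) with hn
  have hp2 := hS.hp.eq_two_or_odd
  have hrdvd : ∀ i : ℕ, a ^ i ∈ Subgroup.center G → r ∣ i := by
    intro i hi
    by_contra hd
    obtain ⟨s, t, hst⟩ : ∃ s t : ℤ, s * (r : ℤ) + t * (i : ℤ) = 1 :=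
      (Int.isCoprime_iff_nat_coprime.mpr (by simpa using hr.coprime_iff_not_dvd.mpr hd))
    refine hanc ?_
    have e : (a ^ (r : ℤ)) ^ s * (a ^ (i : ℤ)) ^ t = a := by
      rw [← zpow_mul, ← zpow_mul, mul_comm (r : ℤ), mul_comm (i : ℤ), ← zpow_add, hst, zpow_one]
    rw [← e]
    refine Subgroup.mul_mem _ (Subgroup.zpow_mem _ ?_ _) (Subgroup.zpow_mem _ ?_ _)
    · rw [zpow_natCast]; exact har
    · rw [zpow_natCast]; exact hi
  have hodd : a ^ (r * n) = 1 := by rw [pow_mul]; exact center_pow_eq_one hf hperf har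
  have hord : ¬ 2 ∣ orderOf a := fun h2 => by
    have := h2.trans (orderOf_dvd_of_pow_eq_one hodd)
    rcases Nat.prime_two.dvd_mul.mp this with h3 | h3
    · exact hr2 ((Nat.prime_dvd_prime_iff_eq Nat.prime_two hr).mp h3).symm
    · omega
  set m := orderOf (a ^ r) with hm
  have hoa : orderOf a = r * m := by
    have hd : r ∣ orderOf a := hrdvd _ (by rw [pow_orderOf_eq_one]; exact one_mem _)
    rw [hm, orderOf_pow' _ hr.ne_zero, Nat.gcd_eq_right hd, Nat.mul_div_cancel' hd]
  have hm0 : 0 < m := orderOf_pos _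
  have hu2 : orderOf u = 2 := orderOf_eq_prime hu hu1
  have hou : orderOf (a * u) = r * (m * 2) := by
    rw [ha.orderOf_mul_eq_mul_orderOf_of_coprime (by rw [hu2]; exact Nat.coprime_two_right.mpr (Nat.odd_iff.mpr (by omega))),
      hoa, hu2, mul_assoc]
  -- the values
  have hzero : ∀ (i j : ℕ), ¬ r ∣ i → (χ : G → ℂ) (a ^ i * u ^ j) = 0 := by
    intro i j hi
    have hcomm : Commute (a ^ i * u ^ j) u := (ha.pow_left i).mul_left ((Commute.refl u).pow_left j)
    refine eq_zero_of_regular hS h hp hdeg hf hperf (regular_of_commute hS h hp hdeg hf hperf hu hu1 hcomm) fun hc => hi ?_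
    rw [(ha.pow_pow i j).mul_pow, ← pow_mul, ← pow_mul, mul_comm j 2, pow_mul u, hu, one_pow, mul_one] at hc
    rcases hr.dvd_mul.mp (hrdvd _ hc) with h3 | h3
    · exact h3
    · exact absurd ((Nat.prime_dvd_prime_iff_eq hr Nat.prime_two).mp h3) hr2
  have hval : ∀ (j e : ℕ), (χ : G → ℂ) (a ^ (r * j) * u ^ e) * conj ((χ : G → ℂ) (a ^ (r * j) * u ^ e)) =
      if e % 2 = 0 then (n : ℂ) ^ 2 else 1 := by
    intro j e
    have hz : a ^ (r * j) ∈ Subgroup.center G := by rw [pow_mul]; exact Subgroup.pow_mem _ har _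
    obtain ⟨ω, hω1, hω2, hω3⟩ := exists_scalar χ hz
    have hωn : ω * conj ω = 1 := by
      rw [Complex.mul_conj', Complex.norm_eq_one_of_pow_eq_one (hω3 hperf) (by omega), Complex.ofReal_one, one_pow]
    have hue : u ^ e = if e % 2 = 0 then 1 else u := by
      conv_lhs => rw [← Nat.div_add_mod e 2, pow_add, pow_mul, hu, one_pow, one_mul]
      split_ifs with he
      · rw [he, pow_zero]
      · rw [Nat.mod_two_ne_zero.mp he, pow_one]
    rw [hω2, hue, map_mul]
    split_ifs
    · rw [← charDegree_cast χ, ← hn, Complex.conj_natCast]; linear_combination (n : ℂ) ^ 2 * hωn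
    · rw [involution_value hS h hp hdeg hf hperf hu hu1, map_neg, map_one]; linear_combination hωn
  -- `r` divides `n ^ 2` and `n ^ 2 + 1`
  obtain ⟨N₁, hN₁⟩ := exists_nat_norm_zpowers χ a
  obtain ⟨N₂, hN₂⟩ := exists_nat_norm_zpowers χ (a * u)
  rw [hoa, sum_range_multiples hr.pos (fun i hi => by
      have := hzero i 0 hi
      rw [pow_zero, mul_one] at this
      rw [this, zero_mul]),
    Finset.sum_congr rfl (g := fun _ => (n : ℂ) ^ 2) (fun j _ => by simpa using hval j 0),
    Finset.sum_const, Finset.card_range, nsmul_eq_mul] at hN₁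
  have hN1 : m * n ^ 2 = r * m * N₁ := by exact_mod_cast hN₁
  rw [hou, sum_range_multiples hr.pos (fun i hi => by rw [ha.mul_pow, hzero i i hi, zero_mul]),
    Finset.sum_congr rfl (g := fun j => if j % 2 = 0 then (n : ℂ) ^ 2 else 1) (fun j _ => by
      rw [ha.mul_pow, hval]
      have : r * j % 2 = j % 2 := by
        rw [Nat.mul_mod, (hr.eq_two_or_odd.resolve_left hr2), one_mul, Nat.mod_mod]
      rw [this])] at hN₂
  have halt : ∀ M : ℕ, ∑ j ∈ Finset.range (M * 2), (if j % 2 = 0 then (n : ℂ) ^ 2 else 1) =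
      (M : ℂ) * ((n : ℂ) ^ 2 + 1) := by
    intro M
    induction M with
    | zero => simp
    | succ M ih =>
      rw [Nat.succ_mul, Finset.sum_range_succ, Finset.sum_range_succ, ih,
        if_pos (Nat.mul_mod_left M 2), if_neg (show ¬ (M * 2 + 1) % 2 = 0 by omega)]
      push_cast; ring
  rw [halt] at hN₂
  have hN2 : m * (n ^ 2 + 1) = r * (m * 2) * N₂ := by exact_mod_cast hN₂
  have h1 : r ∣ n ^ 2 := ⟨N₁, Nat.eq_of_mul_eq_mul_left hm0 (by linear_combination hN1)⟩
  have h2 : r ∣ n ^ 2 + 1 := ⟨2 * N₂, Nat.eq_of_mul_eq_mul_left hm0 (by linear_combination hN2)⟩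
  exact hr.ne_one (Nat.dvd_one.mp ((Nat.dvd_add_right h1).mp h2))

/-- The centraliser of an involution has exponent two modulo the centre. -/
theorem sq_mem_center_of_commute (hS : Setting p x L) (h : Data p x L χ c) (hp : 5 < p)
    (hdeg : charDegree (χ : G → ℂ) = p - 2) (hf : ∀ g : G, (χ : G → ℂ) g = (χ : G → ℂ) 1 → g = 1)
    (hperf : commutator G = ⊤) {u a : G} (hu : u ^ 2 = 1) (hu1 : u ≠ 1) (ha : Commute a u) :
    a ^ 2 ∈ Subgroup.center G := by
  have key : ∀ q : ℕ, ∀ b : G, Commute b u → 0 < q → b ^ q ∈ Subgroup.center G → b ^ 2 ∈ Subgroup.center G := by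
    intro q
    induction q using Nat.strong_induction_on with
    | _ q ih =>
      intro b hb hq0 hbq
      rcases Nat.lt_or_ge q 3 with hq | hq
      · interval_cases q
        · rw [pow_one] at hbq; exact Subgroup.pow_mem _ hbq 2
        · exact hbq
      by_cases h4 : 4 ∣ q
      · obtain ⟨k, hk⟩ := h4
        refine ih (2 * k) (by omega) b hb (by omega) ?_
        rw [mul_comm, pow_mul]
        refine sq_mem_of_pow_four hS h hp hdeg hf hperf
          (regular_of_commute hS h hp hdeg hf hperf hu hu1 (hb.pow_left k)) ?_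
        rw [← pow_mul, ← pow_mul, show k * (2 * 2) = q by omega]
        exact hbq
      obtain ⟨r, hr, hr2, k, hk⟩ : ∃ r : ℕ, r.Prime ∧ r ≠ 2 ∧ r ∣ q := by
        by_cases h2 : 2 ∣ q
        · obtain ⟨r, hr, hrd⟩ := Nat.exists_prime_and_dvd (show q / 2 ≠ 1 by omega)
          refine ⟨r, hr, ?_, hrd.trans (Nat.div_dvd_of_dvd h2)⟩
          rintro rfl
          omega
        · obtain ⟨r, hr, hrd⟩ := Nat.exists_prime_and_dvd (show q ≠ 1 by omega)
          exact ⟨r, hr, by rintro rfl; exact h2 hrd, hrd⟩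
      have hk0 : 0 < k := Nat.pos_of_ne_zero fun h0 => by rw [h0, mul_zero] at hk; omega
      have hlt : k < q := by rw [hk]; exact lt_mul_of_one_lt_left hk0 hr.one_lt
      refine ih k hlt b hb hk0 ?_
      refine mem_center_of_commute hS h hp hdeg hf hperf hu hu1 (hb.pow_left k) hr hr2 ?_
      rw [← pow_mul, mul_comm, ← hk]
      exact hbq
  exact key (orderOf a) a ha (orderOf_pos a) (by rw [pow_orderOf_eq_one]; exact one_mem _)

end Cfsg.Agent.DegPMinusTwo
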