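/-
Reduction to the subgroup generated by the elements of order `p` (namespace `Cfsg.Agent.DegPMinusTwo`).

Main results: `exists_inverting`, `exists_perfect` (that subgroup is perfect and the character stays irreducible on it).
-/
import Cfsg.Agent.Lib.DegPMinusTwo.Local
import Cfsg.Agent.Lib.CyclicDefect.Apply
import Mathlib.GroupTheory.Commutator.Basic

set_option autoImplicit false
set_option linter.unusedSectionVars false
set_option linter.style.haveILetI false

namespace Cfsg.Agent.DegPMinusTwo

open Cfsg Cfsg.Agent.Blocks Cfsg.Agent.CyclicDefect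

variable {G : Type*} [Group G] [Finite G] {p : ℕ} [Fact p.Prime] {x : G} {L : Subgroup G}
  {χ : IrrCharacter G} {c : ZMod p}

/-- An element of the complement inverting `x`. -/
theorem Data.exists_inverting (hS : Setting p x L) (h : Data p x L χ c) : ∃ l ∈ L, l * x * l⁻¹ = x⁻¹ := by
  obtain ⟨l, hl⟩ : ∃ l : L, l ∉ K x L := by
    by_contra hall
    push Not at hall
    have h2 := h.index_K
    rw [(Subgroup.eq_top_iff' _).mpr hall, Subgroup.index_top] at h2
    omega
  have hl2 : l ^ 2 ∈ K x L := by
    haveI := hS.normal_K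
    have := Subgroup.pow_index_mem (K x L) l
    rwa [h.index_K] at this
  refine ⟨l, l.2, ?_⟩
  have ha : (l : G) * x * (l : G)⁻¹ = pw x (alphaVal hS l) := alphaVal_spec hS l
  set a := alphaVal hS l
  have h1 : a * a = 1 := by
    have e : (CyclicDefect.alpha hS) (l ^ 2) = 1 := MonoidHom.mem_ker.mp (by rw [ker_alpha hS]; exact hl2)
    rw [show a * a = alphaVal hS (l ^ 2) by rw [pow_two, alphaVal_mul hS]]
    exact congrArg Units.val e
  rcases mul_self_eq_one_iff.mp h1 with h2 | h2
  · refine absurd ?_ hl
    rw [h2, hS.pw_one] at ha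
    rw [mem_K, Commute, SemiconjBy]
    conv_lhs => rw [← ha]
    rw [inv_mul_cancel_right]
  · rw [ha, h2]
    refine eq_inv_of_mul_eq_one_left ?_
    conv_lhs => arg 2; rw [← hS.pw_one]
    rw [← hS.pw_add, neg_add_cancel, hS.pw_zero]

open scoped Classical in
/-- The subgroup generated by the elements of order `p`. -/
theorem exists_perfect (hS : Setting p x L) (hp : 5 < p) (χ : IrrCharacter G) (hdeg : charDegree (χ : G → ℂ) = p - 2)
    (hf : ∀ g : G, (χ : G → ℂ) g = (χ : G → ℂ) 1 → g = 1) (hnn : ¬ (Subgroup.zpowers x).Normal) :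
    ∃ (D : Subgroup G) (y : D) (L' : Subgroup D) (ψ : IrrCharacter D),
      D.Normal ∧ (y : G) = x ∧ Setting p y L' ∧ commutator D = ⊤ ∧ ¬ (Subgroup.zpowers y).Normal ∧
      charDegree (ψ : D → ℂ) = p - 2 ∧ ∀ d : D, (ψ : D → ℂ) d = (χ : G → ℂ) d := by
  have hpp := hS.hp
  have := Fintype.ofFinite G
  obtain ⟨M, hM⟩ := CentralChar.exists_pModular p
  set D := Subgroup.closure {g : G | orderOf g = p} with hD
  have hDn : D.Normal := by
    refine ⟨fun a ha g => ?_⟩
    have hmap : D.map (MulAut.conj g).toMonoidHom ≤ D := by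
      rw [hD, MonoidHom.map_closure]
      refine Subgroup.closure_mono ?_
      rintro _ ⟨b, hb, rfl⟩
      show orderOf ((MulAut.conj g) b) = p
      rw [MulEquiv.orderOf_eq]; exact hb
    exact hmap ⟨a, ha, rfl⟩
  haveI := hDn
  have hxD : x ∈ D := Subgroup.subset_closure hS.hx
  set y : D := ⟨x, hxD⟩ with hy
  have hyo : orderOf y = p := by rw [← Subgroup.orderOf_coe]; exact hS.hx
  have hsq' : ¬ p ^ 2 ∣ Nat.card D := fun h => hS.hsq (h.trans (Subgroup.card_subgroup_dvd_card D))
  obtain ⟨L', hS'⟩ := exists_setting hpp hyo hsq'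
  -- a conjugate of `x` is a power of `x` only if it fixes the subgroup
  have hzy : (Subgroup.zpowers y).map D.subtype = Subgroup.zpowers x := by
    rw [MonoidHom.map_zpowers]; rfl
  have hynn : ¬ (Subgroup.zpowers y).Normal := by
    intro hn
    refine hnn ⟨fun a ha g => ?_⟩
    -- the unique Sylow subgroup of `D`
    obtain ⟨P, hP⟩ : ∃ P : Sylow p D, (P : Subgroup D) = Subgroup.zpowers y := by
      refine ⟨Sylow.ofCard (Subgroup.zpowers y) ?_, rfl⟩
      rw [Nat.card_zpowers, hyo]
      have hd : p ∣ Nat.card D := hyo ▸ orderOf_dvd_natCard y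
      have h1 : 1 ≤ (Nat.card D).factorization p := hpp.factorization_pos_of_dvd Nat.card_pos.ne' hd
      have h2 : ¬ 2 ≤ (Nat.card D).factorization p := fun h =>
        hsq' ((hpp.pow_dvd_iff_le_factorization Nat.card_pos.ne').mpr h)
      rw [show (Nat.card D).factorization p = 1 by omega, pow_one]
    haveI : (P : Subgroup D).Normal := hP ▸ hn
    haveI := Sylow.characteristic_of_normal P this
    haveI : ((P : Subgroup D).map D.subtype).Normal := inferInstance
    rw [hP, hzy] at this
    exact this.conj_mem a ha g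
  -- all constituents of the restriction
  have hgen : Subgroup.closure {d : D | orderOf d = p} = ⊤ := by
    apply Subgroup.map_injective D.subtype_injective
    rw [MonoidHom.map_closure, ← MonoidHom.range_eq_map, Subgroup.range_subtype]
    conv_rhs => rw [hD]
    congr 1
    ext g
    constructor
    · rintro ⟨d, hd, rfl⟩; show orderOf (d : G) = p; rw [Subgroup.orderOf_coe]; exact hd
    · intro hg; exact ⟨⟨g, Subgroup.subset_closure hg⟩, by show orderOf _ = p; rw [← Subgroup.orderOf_coe]; exact hg, rfl⟩
  have hres : IsCharacter D (fun d : D => (χ : G → ℂ) d) := Char.IsCharacter.restrict (Char.IsIrrCharacter.isCharacter χ.2) D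
  have hp2 := hpp.eq_two_or_odd.resolve_left (by omega)
  by_cases hbig : ∃ θ : IrrCharacter D, classInner (fun d : D => (χ : G → ℂ) d) (θ : D → ℂ) ≠ 0 ∧
      charDegree (θ : D → ℂ) = p - 2
  · obtain ⟨θ, hθ, hθd⟩ := hbig
    have he := CharApp.eq_of_constituent_of_degree hres θ.2 hθ (a := p - 2)
      (by rw [OneMemClass.coe_one, ← charDegree_cast χ, hdeg]) (by rw [← charDegree_cast θ, hθd])
    have hfD : ∀ d : D, (θ : D → ℂ) d = (θ : D → ℂ) 1 → d = 1 := fun d hd => Subtype.ext (hf d (by
      rw [← he] at hd; exact hd))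
    obtain ⟨c, hdat⟩ := exists_data hS' hp θ hθd hfD hynn
    obtain ⟨l, -, hl⟩ := Data.exists_inverting hS' hdat
    refine ⟨D, y, L', θ, hDn, rfl, hS', ?_, hynn, hθd, fun d => (congrFun he d).symm⟩
    -- the derived subgroup contains every element of order `p`
    have h2 : y ^ 2 ∈ commutator D := by
      have hc : l⁻¹ * y⁻¹ * l * y ∈ commutator D := by
        have := Subgroup.commutator_mem_commutator (H₁ := (⊤ : Subgroup D)) (H₂ := ⊤) (Subgroup.mem_top l⁻¹) (Subgroup.mem_top y⁻¹)
        rw [commutator_def]
        simpa [commutatorElement_def, mul_assoc] using this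
      have e : l⁻¹ * y⁻¹ * l = y := by rw [← hl]; group
      rw [e, ← pow_two] at hc
      exact hc
    have hyD : y ∈ commutator D := by
      have hcop : (orderOf y).Coprime 2 := by rw [hyo]; exact (Nat.coprime_primes hpp Nat.prime_two).mpr (by omega)
      obtain ⟨m, hm⟩ := exists_pow_eq_self_of_coprime hcop.symm
      rw [← hm]; exact Subgroup.pow_mem _ h2 m
    refine top_le_iff.mp (hgen ▸ (Subgroup.closure_le _).mpr fun d hd => ?_)
    -- conjugate into `⟨y⟩`
    obtain ⟨P, hP⟩ : ∃ P : Sylow p D, (P : Subgroup D) = Subgroup.zpowers y := by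
      refine ⟨Sylow.ofCard (Subgroup.zpowers y) ?_, rfl⟩
      rw [Nat.card_zpowers, hyo]
      have hd' : p ∣ Nat.card D := hyo ▸ orderOf_dvd_natCard y
      have h1 : 1 ≤ (Nat.card D).factorization p := hpp.factorization_pos_of_dvd Nat.card_pos.ne' hd'
      have h2 : ¬ 2 ≤ (Nat.card D).factorization p := fun h =>
        hsq' ((hpp.pow_dvd_iff_le_factorization Nat.card_pos.ne').mpr h)
      rw [show (Nat.card D).factorization p = 1 by omega, pow_one]
    have hd' : IsPGroup p (Subgroup.zpowers d) :=
      IsPGroup.of_card (n := 1) (by rw [Nat.card_zpowers, show orderOf d = p from hd, pow_one])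
    obtain ⟨Q, hQ⟩ := hd'.exists_le_sylow
    obtain ⟨g, hg⟩ := MulAction.exists_smul_eq D P Q
    have hmem : d ∈ ((g • P : Sylow p D) : Subgroup D) := hg ▸ hQ (Subgroup.mem_zpowers d)
    rw [Sylow.coe_subgroup_smul, hP, Subgroup.mem_pointwise_smul_iff_inv_smul_mem] at hmem
    have hmem' : g⁻¹ * d * g ∈ commutator D := by
      have := (Subgroup.zpowers_le.mpr hyD) hmem
      simpa [MulAut.smul_def, mul_assoc] using this
    haveI : (commutator D).Normal := inferInstance
    have := ‹(commutator D).Normal›.conj_mem _ hmem' g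
    simpa [mul_assoc] using this
  · exfalso
    push Not at hbig
    have := Fintype.ofFinite (IrrCharacter D)
    have hcent : ∀ d : D, d * y = y * d := by
      intro a
      have h1 : y⁻¹ * a⁻¹ * y * a = 1 := by
        refine Subtype.ext (hf _ ?_)
        obtain ⟨m, hm, hin⟩ := Char.IsCharacter.decompose hres
        have hall : ∀ θ : IrrCharacter D, (m θ : ℂ) * (θ : D → ℂ) (y⁻¹ * a⁻¹ * y * a) = (m θ : ℂ) * (θ : D → ℂ) 1 := by
          intro θ
          by_cases hm0 : m θ = 0
          · simp [hm0]
          have hne : classInner (fun d : D => (χ : G → ℂ) d) (θ : D → ℂ) ≠ 0 := by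
            rw [hin θ]; exact_mod_cast hm0
          have hdvd := CharApp.restrict_degree D χ.2 θ.2 hne
          rw [hin θ, ← charDegree_cast χ, ← charDegree_cast θ] at hdvd
          have hdvd' : charDegree (χ : G → ℂ) = m θ * (CharApp.inertia D (θ : D → ℂ)).index * charDegree (θ : D → ℂ) := by
            exact_mod_cast hdvd
          have hne' := hbig θ hne
          have hlt : 2 * charDegree (θ : D → ℂ) + 1 < p := by
            rw [hdeg] at hdvd'
            generalize m θ * (CharApp.inertia D (θ : D → ℂ)).index = e at hdvd'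
            rcases Nat.lt_or_ge e 3 with h3 | h3
            · interval_cases e
              · omega
              · omega
              · omega
            · have := Nat.mul_le_mul_right (charDegree (θ : D → ℂ)) h3
              omega
          congr 1
          refine apply_commutator_of_norm ?_ a
          rcases norm_eq_or_half hS' hM hgen θ hlt.le with h | ⟨h, -⟩
          · exact h
          · omega
        have e1 := congrFun hm (y⁻¹ * a⁻¹ * y * a)
        have e2 := congrFun hm 1
        simp only [Finset.sum_apply, Pi.smul_apply, smul_eq_mul] at e1 e2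
        rw [Finset.sum_congr rfl fun θ _ => hall θ, ← e2] at e1
        simpa using e1
      calc a * y = a * y * (y⁻¹ * a⁻¹ * y * a) := by rw [h1, mul_one]
        _ = y * a := by group
    refine hynn ⟨fun b hb g => ?_⟩
    have hbc : Commute g b := by
      obtain ⟨k, rfl⟩ := Subgroup.mem_zpowers_iff.mp hb
      exact Commute.zpow_right (hcent g) k
    rwa [hbc.eq, mul_inv_cancel_right]

end Cfsg.Agent.DegPMinusTwo
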