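/-
The perfect case: `SL(2, p - 1)` (namespace `Cfsg.Agent.DegPMinusTwo`).

Main result: `perfect_case`.
-/
import Cfsg.Agent.Lib.DegPMinusTwo.Centralizer
import Cfsg.Agent.Lib.DegPMinusTwo.Reduce
import Cfsg.Agent.Lib.GLOrder.Torus
import Cfsg.Agent.Lib.Schur.Basic
import Cfsg.Agent.S1230
import Mathlib.GroupTheory.Transfer

set_option autoImplicit false
set_option linter.unusedSectionVars false
set_option linter.style.haveILetI false

open scoped ComplexConjugate

namespace Cfsg.Agent.DegPMinusTwo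

open Cfsg Cfsg.Agent.Blocks Cfsg.Agent.CyclicDefect

variable {G : Type*} [Group G] [Finite G] {p : ℕ} [Fact p.Prime] {x : G} {L : Subgroup G}
  {χ : IrrCharacter G} {c : ZMod p}

/-- A subgroup all of whose elements square to one and avoiding the identity value. -/
theorem card_dvd_of_involutions (hS : Setting p x L) (h : Data p x L χ c) (hp : 5 < p)
    (hdeg : charDegree (χ : G → ℂ) = p - 2) (hf : ∀ g : G, (χ : G → ℂ) g = (χ : G → ℂ) 1 → g = 1)
    (hperf : commutator G = ⊤) (S : Subgroup G) (hS2 : ∀ s ∈ S, s ^ 2 = 1) : Nat.card S ∣ p - 1 := by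
  classical
  have := Fintype.ofFinite S
  have hr := Char.IsCharacter.restrict (Char.IsIrrCharacter.isCharacter χ.2) S
  obtain ⟨N, hN⟩ := Char.IsCharacter.classInner_nat hr Char.isCharacter_one
  set n := charDegree (χ : G → ℂ) with hn
  have hval : ∀ s : S, (χ : G → ℂ) s = (if s = 1 then (n : ℂ) + 1 else 0) - 1 := by
    intro s
    split_ifs with hs
    · rw [hs, OneMemClass.coe_one, hn, charDegree_cast, add_sub_cancel_right]
    · rw [involution_value hS h hp hdeg hf hperf (hS2 s s.2) (fun e => hs (Subtype.ext e)), zero_sub]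
  rw [classInner] at hN
  have hsum : ∑ s : S, (χ : G → ℂ) s = (n : ℂ) + 1 - (Nat.card S : ℂ) := by
    rw [Finset.sum_congr rfl fun s _ => hval s, Finset.sum_sub_distrib, Finset.sum_ite_eq', Finset.sum_const,
      Finset.card_univ, nsmul_eq_mul, mul_one, if_pos (Finset.mem_univ _), Nat.card_eq_fintype_card]
  have hN' : ((n + 1 : ℕ) : ℂ) = ((Nat.card S * N + Nat.card S : ℕ) : ℂ) := by
    push_cast
    rw [← hN, ← mul_assoc, mul_inv_cancel₀ (Nat.cast_ne_zero.mpr Nat.card_pos.ne'), one_mul]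
    simp only [Pi.one_apply, map_one, mul_one]
    rw [hsum]
    ring
  have h1 : n + 1 = Nat.card S * N + Nat.card S := by exact_mod_cast hN'
  refine ⟨N + 1, ?_⟩
  rw [show p - 1 = n + 1 by omega, h1]
  ring

open scoped Classical in
set_option maxHeartbeats 800000 in
/-- A perfect group with such a character is `SL(2, p - 1)`. -/
theorem perfect_case (hS : Setting p x L) (hp : 5 < p) (χ : IrrCharacter G)
    (hdeg : charDegree (χ : G → ℂ) = p - 2) (hf : ∀ g : G, (χ : G → ℂ) g = (χ : G → ℂ) 1 → g = 1)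
    (hperf : commutator G = ⊤) (hnn : ¬ (Subgroup.zpowers x).Normal) :
    ∃ (a : ℕ) (F : Type) (_ : Field F) (_ : Fintype F), p = 2 ^ a + 1 ∧ Fintype.card F = 2 ^ a ∧
      Subgroup.center G = ⊥ ∧ Nonempty (G ≃* Matrix.SpecialLinearGroup (Fin 2) F) := by
  have hpp := hS.hp
  have hp2 := hpp.eq_two_or_odd
  obtain ⟨c, hdat⟩ := exists_data hS hp χ hdeg hf hnn
  set Z := Subgroup.center G with hZ
  let π : G →* G ⧸ Z := QuotientGroup.mk' Z
  have hπs : Function.Surjective π := QuotientGroup.mk'_surjective Z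
  have hπ1 : ∀ g, π g = 1 ↔ g ∈ Z := fun g => QuotientGroup.eq_one_iff g
  have hzn : ∀ z ∈ Z, z ^ (p - 2) = 1 := fun z hz => hdeg ▸ center_pow_eq_one hf hperf hz
  have hno : ∀ u : G, u ^ 2 = 1 → u ∈ Z → u = 1 := fun u hu hc => involution_noncentral hp hdeg hf hperf hu hc
  -- lifting involutions
  have hlift : ∀ q : G ⧸ Z, q ^ 2 = 1 → q ≠ 1 → ∃ u : G, u ^ 2 = 1 ∧ u ≠ 1 ∧ π u = q := by
    intro q hq hq1
    obtain ⟨g, rfl⟩ := hπs q
    have h2 : g ^ 2 ∈ Z := by rw [← hπ1, map_pow]; exact hq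
    have hπu : π (g ^ (p - 2)) = π g := by
      rw [map_pow, show p - 2 = 2 * ((p - 3) / 2) + 1 by omega, pow_succ, pow_mul, hq, one_pow, one_mul]
    refine ⟨g ^ (p - 2), ?_, ?_, hπu⟩
    · rw [← pow_mul, mul_comm, pow_mul]; exact hzn _ h2
    · intro e
      rw [e, map_one] at hπu
      exact hq1 hπu.symm
  have hcomm : ∀ (u : G), u ^ 2 = 1 → u ≠ 1 → ∀ a : G, Commute (π a) (π u) → Commute a u := by
    intro u hu hu1 a ha
    set z := a * u * a⁻¹ * u⁻¹ with hz
    have hzZ : z ∈ Z := by rw [← hπ1, hz, map_mul, map_mul, map_mul, ha.eq, map_inv, map_inv]; group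
    have e : a * u * a⁻¹ = z * u := by rw [hz]; group
    have h2 : z ^ 2 = 1 := by
      have := congrArg (· ^ 2) e
      simp only [conj_pow, hu, mul_one, mul_inv_cancel] at this
      have hzu : Commute z u := (Subgroup.mem_center_iff.mp hzZ u).symm
      rw [hzu.mul_pow, hu, mul_one] at this
      exact this.symm
    have := hno z h2 hzZ
    rw [this, one_mul, mul_inv_eq_iff_eq_mul] at e
    exact e
  have hexp : ∀ q : G ⧸ Z, q ^ 2 = 1 → q ≠ 1 → ∀ y : G ⧸ Z, Commute y q → y ^ 2 = 1 := by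
    intro q hq hq1 y hy
    obtain ⟨u, hu, hu1, rfl⟩ := hlift q hq hq1
    obtain ⟨a, rfl⟩ := hπs y
    rw [← map_pow, hπ1]
    exact sq_mem_center_of_commute hS hdat hp hdeg hf hperf hu hu1 (hcomm u hu hu1 a hy)
  -- an involution
  obtain ⟨q₀, hq₀, hq₀1⟩ : ∃ q : G ⧸ Z, q ^ 2 = 1 ∧ q ≠ 1 := by
    obtain ⟨l, -, hl⟩ := hdat.exists_inverting hS
    have heven : 2 ∣ orderOf l := by
      by_contra ho
      obtain ⟨m, hm⟩ : ∃ m, orderOf l = 2 * m + 1 := ⟨orderOf l / 2, by omega⟩
      have hlx : ∀ k : ℕ, l ^ (2 * k) * x * (l ^ (2 * k))⁻¹ = x := by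
        intro k
        induction k with
        | zero => simp
        | succ k ih =>
          have h2 : l * x⁻¹ * l⁻¹ = x := by
            rw [show l * x⁻¹ * l⁻¹ = (l * x * l⁻¹)⁻¹ by group, hl, inv_inv]
          calc l ^ (2 * (k + 1)) * x * (l ^ (2 * (k + 1)))⁻¹
              = l * (l * (l ^ (2 * k) * x * (l ^ (2 * k))⁻¹) * l⁻¹) * l⁻¹ := by
                rw [show 2 * (k + 1) = 2 * k + 1 + 1 by ring, pow_succ', pow_succ']; group
            _ = x := by rw [ih, hl, h2]
      have e : l * (l ^ (2 * m) * x * (l ^ (2 * m))⁻¹) * l⁻¹ = x := by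
        have e1 : l * l ^ (2 * m) = 1 := by rw [← pow_succ', ← hm, pow_orderOf_eq_one]
        calc l * (l ^ (2 * m) * x * (l ^ (2 * m))⁻¹) * l⁻¹ = (l * l ^ (2 * m)) * x * (l * l ^ (2 * m))⁻¹ := by group
          _ = x := by rw [e1]; group
      rw [hlx, hl] at e
      have hx2 : x ^ 2 = 1 := by
        rw [pow_two]
        nth_rewrite 1 [← e]
        exact inv_mul_cancel x
      have := Nat.le_of_dvd two_pos (hS.hx ▸ orderOf_dvd_of_pow_eq_one hx2)
      omega
    set u := l ^ (orderOf l / 2)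
    have hu : orderOf u = 2 := orderOf_pow_orderOf_div (orderOf_pos l).ne' heven
    have hu2 : u ^ 2 = 1 := by rw [← hu, pow_orderOf_eq_one]
    refine ⟨π u, by rw [← map_pow, hu2, map_one], fun e => ?_⟩
    rw [hno u hu2 ((hπ1 u).mp e), orderOf_one] at hu
    omega
  -- Sylow 2
  obtain ⟨S⟩ := (inferInstance : Nonempty (Sylow 2 G))
  haveI : Fact (Nat.Prime 2) := ⟨Nat.prime_two⟩
  let T : Sylow 2 (G ⧸ Z) := S.mapSurjective hπs
  have hTcoe : (T : Subgroup (G ⧸ Z)) = (S : Subgroup G).map π := Sylow.coe_mapSurjective hπs S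
  have h2dvd : 2 ∣ Nat.card (G ⧸ Z) := by
    rw [← orderOf_eq_prime hq₀ hq₀1]; exact orderOf_dvd_natCard q₀
  have hTne : Nontrivial (T : Subgroup (G ⧸ Z)) := by
    rw [← Finite.one_lt_card_iff_nontrivial, T.card_eq_multiplicity]
    exact Nat.one_lt_pow (Nat.Prime.factorization_pos_of_dvd Nat.prime_two Nat.card_pos.ne' h2dvd).ne' one_lt_two
  have hTexp : ∀ t ∈ (T : Subgroup (G ⧸ Z)), t ^ 2 = 1 := by
    obtain ⟨w, hw⟩ : ∃ w : Subgroup.center (T : Subgroup (G ⧸ Z)), orderOf w = 2 :=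
      exists_prime_orderOf_dvd_card' 2 (by
        haveI := hTne
        haveI := IsPGroup.center_nontrivial T.isPGroup'
        obtain ⟨k, hk⟩ := IsPGroup.iff_card.mp (T.isPGroup'.to_subgroup (Subgroup.center (T : Subgroup (G ⧸ Z))))
        have h1 := Finite.one_lt_card (α := Subgroup.center (T : Subgroup (G ⧸ Z)))
        rw [hk] at h1 ⊢
        exact dvd_pow_self 2 (by rintro rfl; simp at h1))
    intro t ht
    have hw2 : (((w : (T : Subgroup (G ⧸ Z))) : G ⧸ Z)) ^ 2 = 1 := by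
      have := pow_orderOf_eq_one ((w : (T : Subgroup (G ⧸ Z))) : G ⧸ Z)
      rwa [Subgroup.orderOf_coe, Subgroup.orderOf_coe, hw] at this
    have hw1 : ((w : (T : Subgroup (G ⧸ Z))) : G ⧸ Z) ≠ 1 := fun e => by
      rw [← Subgroup.orderOf_coe, ← Subgroup.orderOf_coe, e, orderOf_one] at hw
      omega
    exact hexp _ hw2 hw1 t (congrArg Subtype.val (Subgroup.mem_center_iff.mp w.2 ⟨t, ht⟩))
  have hSexp : ∀ s ∈ (S : Subgroup G), s ^ 2 = 1 := by
    intro s hs
    have h1 : s ^ 2 ∈ Z := by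
      rw [← hπ1, map_pow]
      exact hTexp _ (by rw [hTcoe]; exact Subgroup.mem_map_of_mem π hs)
    obtain ⟨k, hk⟩ := S.isPGroup' ⟨s, hs⟩
    have hk' : s ^ 2 ^ k = 1 := congrArg Subtype.val hk
    have hco : Nat.Coprime (p - 2) (2 ^ k) :=
      Nat.Coprime.pow_right k (Nat.coprime_two_right.mpr (Nat.odd_iff.mpr (by omega)))
    have hd : orderOf (s ^ 2) ∣ Nat.gcd (p - 2) (2 ^ k) :=
      Nat.dvd_gcd (orderOf_dvd_of_pow_eq_one (hzn _ h1))
        (orderOf_dvd_of_pow_eq_one (by rw [← pow_mul, mul_comm, pow_mul, hk', one_pow]))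
    rw [hco.gcd_eq_one, Nat.dvd_one] at hd
    exact orderOf_eq_one_iff.mp hd
  have hcardT : Nat.card T = Nat.card S := by
    show Nat.card (T : Subgroup (G ⧸ Z)) = _
    rw [hTcoe]
    refine (Nat.card_congr (Equiv.ofBijective
      (fun s : (S : Subgroup G) => (⟨π s, Subgroup.mem_map_of_mem π s.2⟩ : (S : Subgroup G).map π))
      ⟨fun a b e => ?_, fun b => ?_⟩)).symm
    · have e' : π a = π b := congrArg Subtype.val e
      have hm : (a : G)⁻¹ * b ∈ Z := by rw [← hπ1, map_mul, map_inv, e', inv_mul_cancel]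
      exact Subtype.ext (inv_mul_eq_one.mp (hno _ (hSexp _ (Subgroup.mul_mem _ (Subgroup.inv_mem _ a.2) b.2)) hm))
    · obtain ⟨s, hs, hb⟩ := b.2
      exact ⟨⟨s, hs⟩, Subtype.ext hb⟩
  have hTdvd : Nat.card T ∣ p - 1 := hcardT ▸ card_dvd_of_involutions hS hdat hp hdeg hf hperf S hSexp
  have hperfQ : ∀ K : Subgroup (G ⧸ Z), commutator (G ⧸ Z) ≤ K → K = ⊤ := by
    intro K hK
    refine top_le_iff.mp (le_trans (fun q _ => ?_) hK)
    obtain ⟨g, rfl⟩ := hπs q
    have hg : g ∈ commutator G := hperf ▸ Subgroup.mem_top g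
    have := Subgroup.mem_map_of_mem π hg
    rw [commutator_def, Subgroup.map_commutator] at this
    rw [commutator_def]
    exact Subgroup.commutator_mono le_top le_top this
  have hnc : ¬ IsCyclic (T : Subgroup (G ⧸ Z)) := by
    intro hcyc
    have hmin : (Nat.card (G ⧸ Z)).minFac = 2 := (Nat.minFac_eq_two_iff _).mpr h2dvd
    have hcompl := IsCyclic.isComplement' hmin hcyc
    set f := MonoidHom.transferSylow T (hcyc.normalizer_le_centralizer hmin)
    have hker := hperfQ f.ker (by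
      rw [commutator_def, Subgroup.commutator_le]
      intro a _ b _
      rw [MonoidHom.mem_ker, map_commutatorElement, commutatorElement_eq_one_iff_commute]
      obtain ⟨g, hg⟩ := hcyc.exists_generator
      obtain ⟨i, hi⟩ := Subgroup.mem_zpowers_iff.mp (hg (f a))
      obtain ⟨j, hj⟩ := Subgroup.mem_zpowers_iff.mp (hg (f b))
      rw [← hi, ← hj]
      exact Commute.zpow_zpow (Commute.refl g) i j)
    have h1 := hcompl.card_mul_card
    rw [hker, Subgroup.card_top] at h1
    have h2 : 1 < Nat.card (T : Subgroup (G ⧸ Z)) := Finite.one_lt_card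
    have := Nat.card_pos (α := G ⧸ Z)
    nlinarith
  have hxZ : x ∉ Z := fun hx => hnn ⟨fun b hb g => by
    rwa [Subgroup.mem_center_iff.mp (Subgroup.zpowers_le.mpr hx hb) g, mul_inv_cancel_right]⟩
  have hxo : orderOf (π x) = p := orderOf_eq_prime (by rw [← map_pow, hS.pow_eq_one, map_one])
    (fun e => hxZ ((hπ1 x).mp e))
  have hTnn : ¬ (T : Subgroup (G ⧸ Z)).Normal := by
    intro hn
    haveI := hn
    set K := Subgroup.zpowers (π x) with hK
    have hKp : IsPGroup p K := IsPGroup.of_card (n := 1) (by rw [hK, Nat.card_zpowers, hxo, pow_one])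
    letI : MulAction K (T : Subgroup (G ⧸ Z)) := MulAction.compHom _ ((MulAut.conjNormal (H := (T : Subgroup (G ⧸ Z)))).comp K.subtype)
    have hmod := hKp.card_modEq_card_fixedPoints (T : Subgroup (G ⧸ Z))
    have hfix : MulAction.fixedPoints K (T : Subgroup (G ⧸ Z)) = {1} := by
      ext t
      refine ⟨fun ht => ?_, fun ht => ?_⟩
      · by_contra hne
        have h1 : π x * (t : G ⧸ Z) * (π x)⁻¹ = t := by
          have := congrArg Subtype.val (ht ⟨π x, Subgroup.mem_zpowers _⟩)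
          exact this
        rw [mul_inv_eq_iff_eq_mul] at h1
        have h2 := hexp _ (hTexp _ t.2) (fun e => hne (Subtype.ext e)) (π x) h1
        have := Nat.le_of_dvd two_pos (hxo ▸ orderOf_dvd_of_pow_eq_one h2)
        omega
      · rw [Set.mem_singleton_iff] at ht
        subst ht
        intro k
        exact (MulAut.conjNormal (H := (T : Subgroup (G ⧸ Z))) (k : G ⧸ Z)).map_one
    rw [hfix, Nat.card_eq_fintype_card (α := ({1} : Set _)), Set.card_singleton] at hmod
    have h1 : 1 < Nat.card (T : Subgroup (G ⧸ Z)) := Finite.one_lt_card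
    have hd := (Nat.modEq_iff_dvd' h1.le).mp hmod.symm
    have := Nat.le_of_dvd (by omega) hd
    have := Nat.le_of_dvd (by omega) hTdvd
    omega
  obtain ⟨F, iF, iFt, hF, ⟨ψ⟩⟩ := S1230.result T hnc hTnn (fun t ht => by
    have h2 : t ^ 2 = 1 := by rw [← ht, pow_orderOf_eq_one]
    have h1 : t ≠ 1 := fun e => by rw [e, orderOf_one] at ht; omega
    have hall : ∀ y ∈ Subgroup.centralizer ({t} : Set (G ⧸ Z)), y ^ 2 = 1 := fun y hy =>
      hexp t h2 h1 y (Subgroup.mem_centralizer_singleton_iff.mp hy)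
    refine ⟨⟨⟨fun u v => Subtype.ext ?_⟩⟩, hall⟩
    show (u : G ⧸ Z) * v = v * u
    have hu := hall _ u.2
    have hv := hall _ v.2
    have huv := hall _ (Subgroup.mul_mem _ u.2 v.2)
    rw [pow_two] at hu hv huv
    rw [← inv_eq_of_mul_eq_one_right huv, mul_inv_rev, inv_eq_of_mul_eq_one_right hu, inv_eq_of_mul_eq_one_right hv])
  obtain ⟨a, ha⟩ := IsPGroup.iff_card.mp T.isPGroup'
  have ha0 : a ≠ 0 := fun e => by
    have h1 : 1 < Nat.card (T : Subgroup (G ⧸ Z)) := Finite.one_lt_card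
    rw [ha, e] at h1
    simp at h1
  have hFn : Nat.card F = 2 ^ a := by rw [Nat.card_eq_fintype_card, hF]; exact ha
  have heven : Even (Nat.card F) := by rw [hFn, even_iff_two_dvd]; exact dvd_pow_self 2 ha0
  have hq : 2 ^ a = p - 1 := by
    have hle : 2 ^ a ≤ p - 1 := ha ▸ Nat.le_of_dvd (by omega) hTdvd
    have hd : p ∣ 2 ^ a * ((2 ^ a) ^ 2 - 1) := by
      rw [← hFn, ← GLOrder.card_PSL_two_of_even heven, ← Nat.card_congr ψ.toEquiv]
      exact hxo ▸ orderOf_dvd_natCard _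
    rcases hpp.dvd_mul.mp hd with h1 | h1
    · have := Nat.le_of_dvd (Nat.two_pow_pos a) h1; omega
    · rw [GLOrder.sq_sub_one] at h1
      have h2 : 1 < 2 ^ a := Nat.one_lt_two_pow ha0
      rcases hpp.dvd_mul.mp h1 with h3 | h3
      · have := Nat.le_of_dvd (by omega) h3; omega
      · have := Nat.le_of_dvd (by omega) h3; omega
  have hbot : Subgroup.center (Matrix.SpecialLinearGroup (Fin 2) F) = ⊥ := by
    rw [← Subgroup.card_eq_one, GLOrder.card_center_SL, Fintype.card_fin, hFn]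
    exact Nat.coprime_two_left.mpr (Nat.odd_iff.mpr (by omega))
  let φ : (G ⧸ Z) ≃* Matrix.SpecialLinearGroup (Fin 2) F :=
    ψ.trans ((QuotientGroup.quotientMulEquivOfEq hbot).trans QuotientGroup.quotientBot)
  -- the centre is trivial
  have hZ1 : Z = ⊥ := by
    rw [eq_bot_iff]
    intro z hz
    rw [Subgroup.mem_bot]
    by_contra hz1
    obtain ⟨r, hr, hrd⟩ := Nat.exists_prime_and_dvd (show orderOf z ≠ 1 from fun e => hz1 (orderOf_eq_one_iff.mp e))
    set w := z ^ (orderOf z / r)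
    have hwo : orderOf w = r := orderOf_pow_orderOf_div (orderOf_pos z).ne' hrd
    have hrn : r ∣ p - 2 := hrd.trans (orderOf_dvd_of_pow_eq_one (hzn z hz))
    obtain ⟨g, hg⟩ := GLOrder.exists_orderOf_SL_two (F := F) (Or.inl (dvd_refl (Nat.card F - 1)))
    have hgQ : orderOf (φ.symm g) = 2 ^ a - 1 := by rw [MulEquiv.orderOf_eq, hg, hFn]
    have hidx : ¬ r ∣ (Subgroup.zpowers (φ.symm g)).index := by
      intro hdi
      have h1 := (Subgroup.zpowers (φ.symm g)).card_mul_index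
      rw [Nat.card_zpowers, hgQ, Nat.card_congr φ.toEquiv, GLOrder.card_SL_two, hFn, GLOrder.sq_sub_one,
        ← mul_assoc, mul_comm _ (2 ^ a - 1)] at h1
      have h2 : (Subgroup.zpowers (φ.symm g)).index = 2 ^ a * (2 ^ a + 1) :=
        Nat.eq_of_mul_eq_mul_left (by omega) h1
      rw [h2] at hdi
      rcases hr.dvd_mul.mp hdi with h3 | h3
      · rw [(Nat.prime_dvd_prime_iff_eq hr Nat.prime_two).mp (hr.dvd_of_dvd_pow h3)] at hrn
        omega
      · have h4 : r ∣ (2 ^ a + 1) - (p - 2) := Nat.dvd_sub h3 hrn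
        rw [show (2 ^ a + 1) - (p - 2) = 2 by omega] at h4
        rw [(Nat.prime_dvd_prime_iff_eq hr Nat.prime_two).mp h4] at hrn
        omega
    have hstem : Cfsg.IsStemExtension π :=
      ⟨hπs, by rw [QuotientGroup.ker_mk'], by rw [hperf]; exact le_top⟩
    have hwZ : w ∈ π.ker := by rw [QuotientGroup.ker_mk']; exact Subgroup.pow_mem _ hz _
    have := Schur.eq_one_of_cyclic hstem (k := 1) hr (φ.symm g) hidx hwZ (by rw [pow_one, ← hwo, pow_orderOf_eq_one])
    rw [this, orderOf_one] at hwo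
    exact hr.ne_one hwo.symm
  refine ⟨a, F, iF, iFt, by omega, by rw [hF]; exact ha, hZ1, ⟨?_⟩⟩
  exact (QuotientGroup.quotientBot.symm.trans (QuotientGroup.quotientMulEquivOfEq hZ1.symm)).trans φ

end Cfsg.Agent.DegPMinusTwo
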